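import Groth.Agent.Ega43.LimitDescendAffineTarget
import Groth.Agent.Ega43.LimitDescendClosed
import Groth.Agent.Ega43.LimitDescendImm

/-!
# Closed immersions and immersions locally of finite type descend to a finite stage

This is the machinery of `Ega43.LimitDescend` (there for morphisms locally of finite presentation) for
morphisms locally of finite type.
-/

set_option autoImplicit false
set_option backward.isDefEq.respectTransparency false
set_option backward.defeqAttrib.useBackward true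

universe u

open CategoryTheory AlgebraicGeometry Limits

namespace K340.LimFT

open Groth.Agent.Ega43.LimitDescend Groth.Agent.Ega43.LimitDescendIso
  Groth.Agent.Ega43.LimitDescendAffineTarget Groth.Agent.Ega43.LimitDescendClosed

/-- The property `P` of morphisms of finite type descends along cofiltered limits of
quasi-compact quasi-separated schemes with affine transition maps. -/
def DescendsLimFT (P : MorphismProperty Scheme.{u}) : Prop :=
  ∀ {J : Type u} [SmallCategory J] [IsCofiltered J] (E : J ⥤ Scheme.{u}) (c : Cone E)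
    (_ : IsLimit c) [∀ {i j : J} (φ : i ⟶ j), IsAffineHom (E.map φ)]
    [∀ j, CompactSpace (E.obj j)] [∀ j, QuasiSeparatedSpace (E.obj j)]
    {B X₀ : Scheme.{u}} (t : ∀ j, E.obj j ⟶ B)
    (_ : ∀ {i j : J} (φ : i ⟶ j), E.map φ ≫ t j = t i) (f₀ : X₀ ⟶ B)
    [LocallyOfFiniteType f₀] [QuasiCompact f₀] [QuasiSeparated f₀]
    (p : c.pt ⟶ B) (_ : ∀ j, c.π.app j ≫ t j = p)
    {X : Scheme.{u}} (q : X ⟶ X₀) (f : X ⟶ c.pt) (_ : IsPullback q f f₀ p),
    P f → ∃ j, P (pullback.snd f₀ (t j))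

/-- The affine form of `DescendsLimFT`. -/
def DescendsLimFTAffine (P : MorphismProperty Scheme.{u}) : Prop :=
  ∀ {J : Type u} [SmallCategory J] [IsCofiltered J] (E : J ⥤ Scheme.{u}) (c : Cone E)
    (_ : IsLimit c) [∀ j, IsAffine (E.obj j)]
    {B X₀ : Scheme.{u}} (t : ∀ j, E.obj j ⟶ B)
    (_ : ∀ {i j : J} (φ : i ⟶ j), E.map φ ≫ t j = t i) (f₀ : X₀ ⟶ B)
    [LocallyOfFiniteType f₀] [QuasiCompact f₀] [QuasiSeparated f₀]
    (p : c.pt ⟶ B) (_ : ∀ j, c.π.app j ≫ t j = p)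
    {X : Scheme.{u}} (q : X ⟶ X₀) (f : X ⟶ c.pt) (_ : IsPullback q f f₀ p),
    P f → ∃ j, P (pullback.snd f₀ (t j))

/-- Reduction to affine systems. -/
theorem descendsLimFT_of_isAffine {P : MorphismProperty Scheme.{u}} [IsZariskiLocalAtTarget P]
    [P.IsStableUnderBaseChange] (hP : DescendsLimFTAffine P) : DescendsLimFT P := by
  intro J _ _ E c hc _ _ _ B X₀ t ht f₀ _ _ _ p hp X q f hX hf
  obtain ⟨i₀⟩ := IsCofiltered.nonempty (C := J)
  obtain ⟨s, hs, hs'⟩ := isCompact_iff_finite_and_eq_biUnion_affineOpens.mp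
    (show IsCompact ((⊤ : (E.obj i₀).Opens) : Set (E.obj i₀)) from isCompact_univ)
  have key : ∀ V : s, ∃ k : Over i₀, P (pullback.snd f₀ ((E.map k.hom ⁻¹ᵁ V.1.1).ι ≫ t k.left)) := by
    intro V
    have (k : Over i₀) : IsAffine ((opensDiagram E i₀ V.1.1).obj k) := V.1.2.preimage (E.map k.hom)
    have h1 : IsPullback (pullback.fst f (c.π.app i₀ ⁻¹ᵁ V.1.1).ι)
      (pullback.snd f (c.π.app i₀ ⁻¹ᵁ V.1.1).ι) f (c.π.app i₀ ⁻¹ᵁ V.1.1).ι :=
      IsPullback.of_hasPullback _ _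
    exact hP (opensDiagram E i₀ V.1.1) (opensCone E c i₀ V.1.1) (isLimitOpensCone E c hc i₀ V.1.1)
      (fun k ↦ (E.map k.hom ⁻¹ᵁ V.1.1).ι ≫ t k.left) (by
        intro k l φ
        simp [ht]) f₀ ((c.π.app i₀ ⁻¹ᵁ V.1.1).ι ≫ p) (by
        intro j
        simp [hp]) _ _ (h1.paste_horiz hX)
      (MorphismProperty.pullback_snd _ _ hf)
  choose k hk using key
  have : Finite s := hs
  obtain ⟨l, fl, g, hg⟩ := IsCofiltered.wideCospan (fun V : s ↦ (k V).hom)
  have hl : ∀ V : s, P (pullback.snd f₀ ((E.map fl ⁻¹ᵁ V.1.1).ι ≫ t l)) := by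
    intro V
    have e : E.map fl ⁻¹ᵁ V.1.1 ≤ E.map (g V) ⁻¹ᵁ E.map (k V).hom ⁻¹ᵁ V.1.1 := by
      rw [← Scheme.Hom.comp_preimage, ← E.map_comp, hg V]
    refine prop_snd_comp f₀ ((E.map (g V)).resLE _ _ e) _ _ ?_ (hk V)
    simp [ht]
  refine ⟨l, ?_⟩
  have hcov : ⨆ V : s, (E.map fl ⁻¹ᵁ V.1.1) = ⊤ := by
    rw [← Scheme.Hom.preimage_iSup, iSup_subtype, ← hs', Scheme.Hom.preimage_top]
  refine IsZariskiLocalAtTarget.of_iSup_eq_top _ hcov fun V ↦ ?_
  have h1 : IsPullback ((pullback.snd f₀ (t l) ⁻¹ᵁ (E.map fl ⁻¹ᵁ V.1.1)).ι ≫ pullback.fst f₀ (t l))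
      (pullback.snd f₀ (t l) ∣_ (E.map fl ⁻¹ᵁ V.1.1)) f₀ ((E.map fl ⁻¹ᵁ V.1.1).ι ≫ t l) :=
    (isPullback_morphismRestrict (pullback.snd f₀ (t l)) (E.map fl ⁻¹ᵁ V.1.1)).flip.paste_horiz
      (IsPullback.of_hasPullback f₀ (t l))
  exact prop_of_isPullback_of_isPullback (IsPullback.of_hasPullback _ _) h1 (Iso.refl _)
    (by simp) (hl V)

/-- Descent of a property `P` of the corestriction of a morphism to a quasi-compact open. -/
theorem exists_corestrict {P : MorphismProperty Scheme.{u}} [P.RespectsIso]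
    (hP : DescendsLimFT P) {J : Type u} [SmallCategory J] [IsCofiltered J] (E : J ⥤ Scheme.{u})
    (c : Cone E) (hc : IsLimit c) [∀ {i j : J} (φ : i ⟶ j), IsAffineHom (E.map φ)]
    [∀ j, CompactSpace (E.obj j)] [∀ j, QuasiSeparatedSpace (E.obj j)]
    {B X₀ : Scheme.{u}} (t : ∀ j, E.obj j ⟶ B)
    (ht : ∀ {i j : J} (φ : i ⟶ j), E.map φ ≫ t j = t i) (f₀ : X₀ ⟶ B)
    [LocallyOfFiniteType f₀] [QuasiCompact f₀] [QuasiSeparated f₀]
    (p : c.pt ⟶ B) (hp : ∀ j, c.π.app j ≫ t j = p)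
    {X : Scheme.{u}} (q : X ⟶ X₀) (f : X ⟶ c.pt) (hX : IsPullback q f f₀ p)
    (U : c.pt.Opens) (hU : IsCompact (U : Set c.pt)) (g : X ⟶ U) (hg : g ≫ U.ι = f) (hPg : P g) :
    ∃ (j : J) (V : (E.obj j).Opens) (g' : pullback f₀ (t j) ⟶ V),
      IsCompact (V : Set (E.obj j)) ∧ g' ≫ V.ι = pullback.snd f₀ (t j) ∧ P g' := by
  obtain ⟨i, V, hV, hVU⟩ := exists_preimage_eq E c hc U hU
  let XE := pbDiagram t ht f₀
  let cX := pbCone t ht f₀ c p hp q f hX
  have hcX : IsLimit cX := isLimitPbCone t ht f₀ c p hp q f hX hc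
  have hWtop : cX.π.app i ⁻¹ᵁ (pullback.snd f₀ (t i) ⁻¹ᵁ V) = ⊤ := by
    have h2 : cX.π.app i ≫ pullback.snd f₀ (t i) = f ≫ c.π.app i :=
      pbCone_π_snd t ht f₀ c p hp q f hX i
    have h3 : (cX.π.app i ≫ pullback.snd f₀ (t i)) ⁻¹ᵁ V = ⊤ := by
      rw [h2, Scheme.Hom.comp_preimage, hVU, ← hg, Scheme.Hom.comp_preimage]
      simp
    exact h3
  obtain ⟨j, φ, hj⟩ := exists_map_eq_top XE cX hcX _ hWtop
  -- pass to the stage `j`
  let V' : (E.obj j).Opens := E.map φ ⁻¹ᵁ V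
  have hV' : IsCompact (V' : Set (E.obj j)) := QuasiCompact.isCompact_preimage _ V.2 hV
  have hV'U : c.π.app j ⁻¹ᵁ V' = U := by
    have h3 : (c.π.app j ≫ E.map φ) ⁻¹ᵁ V = U := by
      rw [c.w φ, hVU]
    exact h3
  have hj' : pullback.snd f₀ (t j) ⁻¹ᵁ V' = ⊤ := by
    have h2 : XE.map φ ≫ pullback.snd f₀ (t i) = pullback.snd f₀ (t j) ≫ E.map φ :=
      (isPullback_pbSnd t ht f₀ φ).w
    have h3 : (pullback.snd f₀ (t j) ≫ E.map φ) ⁻¹ᵁ V = ⊤ := by
      rw [← h2]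
      exact hj
    exact h3
  have hrange : Set.range (pullback.snd f₀ (t j)) ⊆ Set.range V'.ι := by
    rw [Scheme.Opens.range_ι]
    rintro _ ⟨x, rfl⟩
    have : x ∈ pullback.snd f₀ (t j) ⁻¹ᵁ V' := by rw [hj']; trivial
    exact this
  let g₁ : pullback f₀ (t j) ⟶ V' := IsOpenImmersion.lift V'.ι (pullback.snd f₀ (t j)) hrange
  have hg₁ : g₁ ≫ V'.ι = pullback.snd f₀ (t j) := IsOpenImmersion.lift_fac _ _ _
  have : LocallyOfFiniteType (g₁ ≫ V'.ι) := by rw [hg₁]; infer_instance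
  have : QuasiCompact (g₁ ≫ V'.ι) := by rw [hg₁]; infer_instance
  have : QuasiSeparated (g₁ ≫ V'.ι) := by rw [hg₁]; infer_instance
  have : LocallyOfFiniteType g₁ := locallyOfFiniteType_of_comp g₁ V'.ι
  have : QuasiCompact g₁ := QuasiCompact.of_comp g₁ V'.ι
  have : QuasiSeparated g₁ := QuasiSeparated.of_comp g₁ V'.ι
  -- the diagram of opens
  have (k : Over j) : CompactSpace ((opensDiagram E j V').obj k) :=
    isCompact_iff_compactSpace.mp (QuasiCompact.isCompact_preimage _ V'.2 hV')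
  have (k : Over j) : QuasiSeparatedSpace ((opensDiagram E j V').obj k) :=
    (isQuasiSeparated_iff_quasiSeparatedSpace _ (E.map _ ⁻¹ᵁ _).2).mp (.of_quasiSeparatedSpace _)
  let tV : ∀ k : Over j, (opensDiagram E j V').obj k ⟶ V' := fun k ↦ E.map k.hom ∣_ V'
  have htV : ∀ {k l : Over j} (ψ : k ⟶ l), (opensDiagram E j V').map ψ ≫ tV l = tV k := by
    intro k l ψ
    rw [← cancel_mono V'.ι]
    have h1 : E.map ψ.left ≫ E.map l.hom = E.map k.hom := by rw [← E.map_comp, Over.w]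
    simp [tV, h1]
  let g₂ : X ⟶ (c.π.app j ⁻¹ᵁ V' : c.pt.Opens) := g ≫ (c.pt.isoOfEq hV'U.symm).hom
  have hg₂ : g₂ ≫ (c.π.app j ⁻¹ᵁ V').ι = f := by
    have h1 : (c.pt.isoOfEq hV'U.symm).hom ≫ (c.π.app j ⁻¹ᵁ V').ι = U.ι :=
      Scheme.isoOfEq_hom_ι c.pt hV'U.symm
    change (g ≫ (c.pt.isoOfEq hV'U.symm).hom) ≫ (c.π.app j ⁻¹ᵁ V').ι = f
    rw [Category.assoc, h1, hg]
  have hPg₂ : P g₂ := (P.cancel_right_of_respectsIso _ _).mpr hPg
  have hpV : ∀ k, (opensCone E c j V').π.app k ≫ tV k = c.π.app j ∣_ V' := by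
    intro k
    rw [← cancel_mono V'.ι]
    simp [tV]
  have hsq : IsPullback (cX.π.app j) g₂ g₁ (c.π.app j ∣_ V') := by
    have h1 : IsPullback (cX.π.app j) f (pullback.snd f₀ (t j)) (c.π.app j) :=
      isPullback_pbCone t ht f₀ c p hp q f hX j
    refine IsPullback.of_bot (h₃₁ := c.π.app j) (v₂₁ := (c.π.app j ⁻¹ᵁ V').ι) (v₂₂ := V'.ι)
      ?_ ?_ (isPullback_morphismRestrict (c.π.app j) V')
    · rw [hg₂, hg₁]
      exact h1
    · rw [← cancel_mono V'.ι]
      simp only [Category.assoc, hg₁, morphismRestrict_ι, reassoc_of% hg₂]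
      exact h1.w
  obtain ⟨k, hk⟩ := hP (opensDiagram E j V') (opensCone E c j V') (isLimitOpensCone E c hc j V')
    tV htV g₁ (c.π.app j ∣_ V') hpV (cX.π.app j) g₂ hsq hPg₂
  -- assemble
  have hsq' := isPullback_pbSnd t ht f₀ k.hom
  obtain ⟨l, hl1, hl2⟩ : ∃ l : pullback f₀ (t k.left) ⟶ (E.map k.hom ⁻¹ᵁ V' : (E.obj k.left).Opens),
      l ≫ (E.map k.hom ⁻¹ᵁ V').ι = pullback.snd f₀ (t k.left) ∧ IsPullback (XE.map k.hom) l g₁ (tV k) := by
    have t1 := isPullback_morphismRestrict (E.map k.hom) V'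
    refine ⟨t1.lift (XE.map k.hom ≫ g₁) (pullback.snd f₀ (t k.left)) ?_, ?_, ?_⟩
    · rw [Category.assoc, hg₁]
      exact hsq'.w
    · exact t1.lift_snd _ _ _
    · refine IsPullback.of_bot' (h₃₁ := E.map k.hom) (v₂₁ := (E.map k.hom ⁻¹ᵁ V').ι) (v₂₂ := V'.ι)
        ?_ t1
      rw [hg₁]
      exact hsq'
  refine ⟨k.left, E.map k.hom ⁻¹ᵁ V', l, QuasiCompact.isCompact_preimage _ V'.2 hV', hl1, ?_⟩
  exact prop_of_isPullback_of_isPullback (IsPullback.of_hasPullback g₁ (tV k)) hl2 (Iso.refl _)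
    (by simp) hk

theorem descendsLimFTAffine_isClosedImmersion : DescendsLimFTAffine @IsClosedImmersion.{u} := by
  intro J _ _ E c hc _ B X₀ t ht f₀ _ _ _ p hp X q f hX hf
  have : IsAffine c.pt := Scheme.isAffine_of_isLimit c hc
  have : IsAffine X := isAffine_of_isAffineHom f
  have hfs : Function.Surjective f.appTop := (IsClosedImmersion.isAffine_surjective_of_isAffine f).2
  let XE := pbDiagram t ht f₀
  let cX := pbCone t ht f₀ c p hp q f hX
  have hcX : IsLimit cX := isLimitPbCone t ht f₀ c p hp q f hX hc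
  have : IsAffine cX.pt := inferInstanceAs (IsAffine X)
  obtain ⟨k, hk⟩ := Scheme.exists_isAffine_of_isLimit XE cX hcX
  have hk' : IsAffine (pullback f₀ (t k)) := hk
  have hft : (pullback.snd f₀ (t k)).appTop.hom.FiniteType :=
    HasRingHomProperty.appTop (P := @LocallyOfFiniteType) _ inferInstance
  let _ := (pullback.snd f₀ (t k)).appTop.hom.toAlgebra
  obtain ⟨s, hs⟩ := hft.out
  -- each element is eventually in the image
  have key : ∀ x : Γ(XE.obj k, ⊤), ∃ m, ∃ φ : m ⟶ k,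
      (XE.map φ).appTop.hom x ∈ (pullback.snd f₀ (t m)).appTop.hom.range := by
    intro x
    obtain ⟨y, hy⟩ := hfs ((cX.π.app k).appTop.hom x)
    obtain ⟨l, z, hz⟩ := exists_appTop_π_eq_of_isLimit E c hc y
    obtain ⟨m, a, b, -⟩ := IsCofilteredOrEmpty.cone_objs k l
    have h2 : cX.π.app m ≫ pullback.snd f₀ (t m) = f ≫ c.π.app m :=
      pbCone_π_snd t ht f₀ c p hp q f hX m
    have h3 : (cX.π.app m).appTop.hom ((XE.map a).appTop.hom x) =
        (cX.π.app m).appTop.hom ((pullback.snd f₀ (t m)).appTop.hom ((E.map b).appTop.hom z)) := by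
      have e1 : (cX.π.app m).appTop.hom ((XE.map a).appTop.hom x) = (cX.π.app k).appTop.hom x :=
        appTop_appTop (cX.w a) x
      have e2 : (c.π.app m).appTop.hom ((E.map b).appTop.hom z) = (c.π.app l).appTop.hom z :=
        appTop_appTop (c.w b) z
      have e3 : (cX.π.app m).appTop.hom ((pullback.snd f₀ (t m)).appTop.hom
          ((E.map b).appTop.hom z)) = (f ≫ c.π.app m).appTop.hom ((E.map b).appTop.hom z) :=
        appTop_appTop h2 _
      have e4 : f.appTop.hom ((c.π.app m).appTop.hom ((E.map b).appTop.hom z)) =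
          (f ≫ c.π.app m).appTop.hom ((E.map b).appTop.hom z) := appTop_appTop rfl _
      rw [e1, e3, ← e4, e2]
      rw [hz] at hy
      exact hy.symm
    obtain ⟨n, ψ, hn⟩ := exists_app_map_eq_map_of_isLimit XE cX hcX (i := m) (U := ⊤)
      isCompact_univ _ _ h3
    refine ⟨n, ψ ≫ a, (E.map (ψ ≫ b)).appTop.hom z, ?_⟩
    have h6 : XE.map ψ ≫ pullback.snd f₀ (t m) = pullback.snd f₀ (t n) ≫ E.map ψ :=
      (isPullback_pbSnd t ht f₀ ψ).w
    have hn' : (XE.map ψ).appTop.hom ((XE.map a).appTop.hom x) =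
      (XE.map ψ).appTop.hom ((pullback.snd f₀ (t m)).appTop.hom ((E.map b).appTop.hom z)) := hn
    have e1 : (XE.map ψ).appTop.hom ((XE.map a).appTop.hom x) = (XE.map (ψ ≫ a)).appTop.hom x :=
      appTop_appTop (XE.map_comp ψ a).symm x
    have e2 : (XE.map ψ).appTop.hom ((pullback.snd f₀ (t m)).appTop.hom
          ((E.map b).appTop.hom z)) = (pullback.snd f₀ (t n) ≫ E.map ψ).appTop.hom
          ((E.map b).appTop.hom z) := appTop_appTop h6 _
    have e3 : (pullback.snd f₀ (t n)).appTop.hom ((E.map ψ).appTop.hom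
          ((E.map b).appTop.hom z)) = (pullback.snd f₀ (t n) ≫ E.map ψ).appTop.hom
          ((E.map b).appTop.hom z) := appTop_appTop rfl _
    have e4 : (E.map ψ).appTop.hom ((E.map b).appTop.hom z) = (E.map (ψ ≫ b)).appTop.hom z :=
      appTop_appTop (E.map_comp ψ b).symm z
    rw [← e4, e3, ← e2, ← hn', e1]
  choose m φ hφ using key
  obtain ⟨n, ψ, g, hg⟩ := IsCofiltered.wideCospan (fun x : s ↦ φ x.1)
  refine ⟨n, ?_⟩
  have hn : IsAffine (XE.obj n) := isAffine_of_isAffineHom (XE.map ψ)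
  have hn' : IsAffine (pullback f₀ (t n)) := hn
  refine IsClosedImmersion.of_surjective_of_isAffine (pullback.snd f₀ (t n)) ?_
  have hpb : IsPullback (XE.map ψ) (pullback.snd f₀ (t n)) (pullback.snd f₀ (t k)) (E.map ψ) :=
    isPullback_pbSnd t ht f₀ ψ
  refine surjective_of_isPushout (isPushout_appTop_of_isPullback hpb).flip
    (s : Set Γ(pullback f₀ (t k), ⊤)) hs ?_
  intro x hx
  obtain ⟨w, hw⟩ := hφ x
  refine ⟨(E.map (g ⟨x, hx⟩)).appTop.hom w, ?_⟩
  have h6 : XE.map (g ⟨x, hx⟩) ≫ pullback.snd f₀ (t (m x)) =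
    pullback.snd f₀ (t n) ≫ E.map (g ⟨x, hx⟩) := (isPullback_pbSnd t ht f₀ (g ⟨x, hx⟩)).w
  have h7 : XE.map (g ⟨x, hx⟩) ≫ XE.map (φ x) = XE.map ψ := by
    rw [← XE.map_comp, hg ⟨x, hx⟩]
  have e1 : (pullback.snd f₀ (t n)).appTop.hom ((E.map (g ⟨x, hx⟩)).appTop.hom w) =
    (XE.map (g ⟨x, hx⟩) ≫ pullback.snd f₀ (t (m x))).appTop.hom w := appTop_appTop h6.symm w
  have e2 : (XE.map (g ⟨x, hx⟩)).appTop.hom ((pullback.snd f₀ (t (m x))).appTop.hom w) =
    (XE.map (g ⟨x, hx⟩) ≫ pullback.snd f₀ (t (m x))).appTop.hom w := appTop_appTop rfl w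
  rw [e1, ← e2, hw]
  exact appTop_appTop h7 x

/-- Closed immersions descend. -/
theorem descendsLimFT_isClosedImmersion : DescendsLimFT @IsClosedImmersion.{u} :=
  descendsLimFT_of_isAffine descendsLimFTAffine_isClosedImmersion

/-- Immersions descend. -/
theorem descendsLimFT_isImmersion : DescendsLimFT @IsImmersion.{u} := by
  intro J _ _ E c hc _ _ _ B X₀ t ht f₀ _ _ _ p hp X q f hX hf
  have hf' : IsImmersion f := hf
  have : CompactSpace X := Scheme.compactSpace_of_isLimit (pbDiagram t ht f₀)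
    (pbCone t ht f₀ c p hp q f hX) (isLimitPbCone t ht f₀ c p hp q f hX hc)
  have hK : IsCompact (Set.range f) := isCompact_range f.continuous
  have hKU : Set.range f ⊆ (f.coborderRange : Set c.pt) := by
    rintro _ ⟨x, rfl⟩
    have h1 : (f.liftCoborder ≫ f.coborderRange.ι) x ∈ (f.coborderRange : Set c.pt) :=
      (f.liftCoborder x).2
    rwa [f.liftCoborder_ι] at h1
  obtain ⟨U₀, hU₀, hU₀o, hKU₀, hU₀U⟩ := PrespectralSpace.exists_isCompact_and_isOpen_between hK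
    f.coborderRange.2 hKU
  let U : c.pt.Opens := ⟨U₀, hU₀o⟩
  have hUle : U ≤ f.coborderRange := hU₀U
  have hr : Set.range f ⊆ Set.range U.ι := by rwa [Scheme.Opens.range_ι]
  let g : X ⟶ U := IsOpenImmersion.lift U.ι f hr
  have hg : g ≫ U.ι = f := IsOpenImmersion.lift_fac _ _ _
  have hgc : IsClosedImmersion g := by
    have h1 : g ≫ c.pt.homOfLE hUle = f.liftCoborder := by
      rw [← cancel_mono f.coborderRange.ι, Category.assoc, Scheme.homOfLE_ι, hg, f.liftCoborder_ι]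
    have : IsClosedImmersion (g ≫ c.pt.homOfLE hUle) := by rw [h1]; infer_instance
    have : IsSeparated (c.pt.homOfLE hUle) := inferInstance
    exact IsClosedImmersion.of_comp g (c.pt.homOfLE hUle)
  obtain ⟨j, V, g', hV, hg', hg'i⟩ := exists_corestrict descendsLimFT_isClosedImmersion E c hc t ht f₀ p
    hp q f hX U hU₀ g hg hgc
  refine ⟨j, ?_⟩
  have : IsClosedImmersion g' := hg'i
  change IsImmersion (pullback.snd f₀ (t j))
  rw [← hg']
  infer_instance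

/-- The milestone shape follows from `DescendsLimFT P`. -/
theorem exists_descend_of_descendsLimFT {P : MorphismProperty Scheme.{u}} (hP : DescendsLimFT P)
    {I : Type u} [SmallCategory I] [IsCofiltered I]
    (D : I ⥤ Scheme.{u}) (c : Limits.Cone D) (hc : Limits.IsLimit c)
    [∀ (i j : I) (f : i ⟶ j), IsAffineHom (D.map f)] (i₀ : I) [CompactSpace (D.obj i₀)]
    [QuasiSeparatedSpace (D.obj i₀)] {X₀ Y₀ : Scheme.{u}} (f₀ : X₀ ⟶ Y₀) (g₀ : Y₀ ⟶ D.obj i₀)
    [QuasiCompact g₀] [QuasiSeparated g₀]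
    [LocallyOfFiniteType f₀] [QuasiCompact f₀] [QuasiSeparated f₀]
    {X Y : Scheme.{u}} (f : X ⟶ Y) (g : Y ⟶ c.pt) (qY : Y ⟶ Y₀) (qX : X ⟶ X₀)
    (hY : IsPullback qY g g₀ (c.π.app i₀)) (hX : IsPullback qX f f₀ qY) (hf : P f) :
    ∃ (i : I) (φ : i ⟶ i₀) (Xi Yi : Scheme.{u}) (fi : Xi ⟶ Yi) (gi : Yi ⟶ D.obj i) (pY : Yi ⟶ Y₀)
      (pX : Xi ⟶ X₀), IsPullback pY gi g₀ (D.map φ) ∧ IsPullback pX fi f₀ pY ∧ P fi := by
  let t : ∀ j : Over i₀, (Over.forget i₀ ⋙ D).obj j ⟶ D.obj i₀ := fun j ↦ D.map j.hom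
  have ht : ∀ {i j : Over i₀} (φ : i ⟶ j), (Over.forget i₀ ⋙ D).map φ ≫ t j = t i :=
    fun φ ↦ overT_w D i₀ φ
  have hp : ∀ j, (overCone c i₀).π.app j ≫ t j = c.π.app i₀ := fun j ↦ by
    simp [t]
  obtain ⟨j, hj⟩ := hP (pbDiagram t ht g₀)
    (pbCone t ht g₀ (overCone c i₀) (c.π.app i₀) hp qY g hY)
    (isLimitPbCone t ht g₀ (overCone c i₀) (c.π.app i₀) hp qY g hY (isLimitOverCone c hc i₀))
    (fun j ↦ pullback.fst g₀ (t j)) (fun φ ↦ pbDiagram_map_fst t ht g₀ φ) f₀ qY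
    (fun j ↦ pbCone_π_fst ..) qX f hX hf
  exact ⟨j.left, j.hom, _, _, pullback.snd f₀ (pullback.fst g₀ (t j)), pullback.snd g₀ (t j),
    pullback.fst g₀ (t j), pullback.fst f₀ (pullback.fst g₀ (t j)),
    IsPullback.of_hasPullback _ _, IsPullback.of_hasPullback _ _, hj⟩


end K340.LimFT
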