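import Groth.Agent.Smoothlim.ProperDescend

/-!
# Combining two descent statements over affine bases
-/

set_option autoImplicit false
universe u

open CategoryTheory CategoryTheory.Limits AlgebraicGeometry

namespace K340.Combine

open Groth.Agent.Smoothlim.LimBase

theorem descendsAffine_inf {Q Q' P P' : MorphismProperty Scheme.{u}} [P.IsStableUnderBaseChange]
    [P'.IsStableUnderBaseChange] (h : DescendsAffine Q P) (h' : DescendsAffine Q' P') :
    DescendsAffine (Q ⊓ Q') (P ⊓ P') := by
  intro α _ _ _ F c hc B t ht b hb X f hQ hP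
  obtain ⟨i, hi⟩ := h F c hc t ht b hb f hQ.1 hP.1
  obtain ⟨j, hj⟩ := h' F c hc t ht b hb f hQ.2 hP.2
  obtain ⟨k, hik, hjk⟩ := exists_ge_ge i j
  exact ⟨k, mono_stage F t ht f hik hi, mono_stage F t ht f hjk hj⟩

theorem descendsAffine_mono {Q Q' P : MorphismProperty Scheme.{u}} (hQ : Q' ≤ Q)
    (h : DescendsAffine Q P) : DescendsAffine Q' P := by
  intro α _ _ _ F c hc B t ht b hb X f hQ' hP
  exact h F c hc t ht b hb f (hQ _ hQ') hP

end K340.Combine
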