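import Groth.Agent.Ega43.LimRed

/-!
# The one object form of descent along limits, for quasi-compact quasi-separated schemes
-/

set_option autoImplicit false
universe u
open CategoryTheory AlgebraicGeometry

namespace K340.Descend

open Groth.Agent.Ega43.LimRed

/-- The usual shape of a descent statement, from its one object form. -/
theorem exists_of_one {Q P : MorphismProperty Scheme.{u}} [Q.RespectsIso] [P.RespectsIso]
    (H : DescendsOne Q P) {I : Type u} [SmallCategory I] [IsCofiltered I]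
    (D : I ⥤ Scheme.{u}) (c : Limits.Cone D) (hc : Limits.IsLimit c)
    [∀ (i j : I) (f : i ⟶ j), IsAffineHom (D.map f)] (i₀ : I) [CompactSpace (D.obj i₀)]
    [QuasiSeparatedSpace (D.obj i₀)] {X₀ Y₀ : Scheme.{u}} (f₀ : X₀ ⟶ Y₀) (g₀ : Y₀ ⟶ D.obj i₀)
    [CompactSpace X₀] [QuasiSeparatedSpace X₀] [CompactSpace Y₀] [QuasiSeparatedSpace Y₀]
    (hQ : Q f₀)
    {X Y : Scheme.{u}} (f : X ⟶ Y) (g : Y ⟶ c.pt) (qY : Y ⟶ Y₀) (qX : X ⟶ X₀)
    (hY : IsPullback qY g g₀ (c.π.app i₀)) (hX : IsPullback qX f f₀ qY) (hf : P f) :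
    ∃ (i : I) (φ : i ⟶ i₀) (Xi Yi : Scheme.{u}) (fi : Xi ⟶ Yi) (gi : Yi ⟶ D.obj i) (pY : Yi ⟶ Y₀)
      (pX : Xi ⟶ X₀), IsPullback pY gi g₀ (D.map φ) ∧ IsPullback pX fi f₀ pY ∧ P fi :=
  exists_of_descendsOne H D c hc i₀ f₀ g₀ hQ f g qY qX hY hX hf

end K340.Descend
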