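import Groth.Agent.Lim.K340.Locus
import Groth.Agent.Ega4fib.H172.FibDimConstr
import Groth.Agent.Ega4fib.H172.FibDimBC
import Groth.Agent.FibDim.K582.RelDim
import Groth.Agent.S0402

/-!
# Descent of the relative dimension along limits
-/

set_option autoImplicit false
universe u
open CategoryTheory AlgebraicGeometry Limits

namespace K340.DimLocus

open Groth.Agent.Ega43.LimRed K340.Locus

theorem bc_fibreDimAt (R : WithBot ℕ∞ → Prop) :
    BC @LocallyOfFiniteType (fun {X _} (f : X ⟶ _) (x : X) ↦ R (FlatMor.fibreDimAt f x)) := by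
  intro X' X Y' Y g' f' f g h hf x'
  have : LocallyOfFiniteType f := hf
  exact iff_of_eq (congrArg R (Groth.Agent.Ega4fib.H172.FibDimBC.fibreDimAt_of_isPullback h x'))

theorem bc_fibreDimAt' (R : WithBot ℕ∞ → Prop) :
    BC @LocallyOfFinitePresentation
      (fun {X _} (f : X ⟶ _) (x : X) ↦ R (FlatMor.fibreDimAt f x)) := by
  intro X' X Y' Y g' f' f g h hf x'
  have : LocallyOfFinitePresentation f := hf
  exact bc_fibreDimAt R h inferInstance x'

end K340.DimLocus
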