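import Groth.Agent.Lim.K340.One
import Groth.Agent.Smoothlim.FlatDescend
import Groth.Agent.Ega43.LimFinite
import Groth.Prelude.Def_Mor2

/-!
# Finite locally free morphisms of degree `d` descend from a cofiltered limit to a stage
-/

set_option autoImplicit false
universe u

open CategoryTheory CategoryTheory.Limits AlgebraicGeometry

namespace K340.Degree

open Groth.Agent.Smoothlim.LimBase Groth.Agent.Ega43.LimRed Groth.Agent.Ega43.LimTarget K340.One

theorem descendsOne_flat : DescendsOne @LocallyOfFinitePresentation.{u} @Flat :=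
  descendsOne_of_descendsAffine (fun f _ _ h ↦ ⟨h, ‹QuasiCompact f›⟩) descendsAffine_flat

theorem descendsOne_finiteFlat :
    DescendsOne @LocallyOfFinitePresentation.{u} (@IsFinite ⊓ @Flat) :=
  descendsOne_inf (descendsOne_mono
    (fun _ _ f (_ : LocallyOfFinitePresentation f) ↦ (inferInstance : LocallyOfFiniteType f))
    Groth.Agent.Ega43.LimFinite.descendsOne_isFinite) descendsOne_flat

/-- Finite locally free of degree `d`, as a morphism property. -/
abbrev FLF (d : ℕ) : MorphismProperty Scheme.{u} := fun _ _ f ↦ Mor2.IsFinLocFreeOfDeg d f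

instance (d : ℕ) : (FLF.{u} d).IsStableUnderBaseChange := by
  refine ⟨fun {X' X Y' Y g' f' f g} h hf ↦ ?_⟩
  obtain ⟨⟨h1, h2, h3⟩, h4⟩ := hf
  refine ⟨⟨MorphismProperty.of_isPullback h h1, MorphismProperty.of_isPullback h h2,
    MorphismProperty.of_isPullback h h3⟩, fun y ↦ ?_⟩
  rw [Scheme.Hom.finrank_of_isPullback _ _ _ _ h]
  exact h4 _

theorem descendsOne_FLF (d : ℕ) : DescendsOne @LocallyOfFinitePresentation.{u} (FLF d) := by
  intro I _ _ D c hc _ _ _ i₀ X₀ f₀ hf₀ _ _ hP
  obtain ⟨⟨h1, h2, h3⟩, h4⟩ := hP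
  obtain ⟨i, φ, hfin, hflat⟩ := descendsOne_finiteFlat D c hc i₀ f₀ hf₀ ⟨h1, h2⟩
  let fi : pullback f₀ (D.map φ) ⟶ D.obj i := pullback.snd f₀ (D.map φ)
  have hfin' : IsFinite fi := hfin
  have hflat' : Flat fi := hflat
  have hf₀' : LocallyOfFinitePresentation f₀ := hf₀
  have hfp : LocallyOfFinitePresentation fi := inferInstance
  let U : (D.obj i).Opens := ⟨{y | fi.finrank y = d}, fi.isLocallyConstant_finrank {d}⟩
  have hpb : IsPullback (pullback.lift (pullback.fst f₀ (c.π.app i₀)) (pullback.snd f₀ (c.π.app i₀) ≫ c.π.app i)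
      (by rw [Category.assoc, c.w, pullback.condition])) (pullback.snd f₀ (c.π.app i₀)) fi (c.π.app i) := by
    refine IsPullback.of_right (h₁₂ := pullback.fst f₀ (D.map φ)) (h₂₂ := D.map φ) (v₁₃ := f₀) ?_
      (pullback.lift_snd _ _ _) (IsPullback.of_hasPullback _ _)
    rw [pullback.lift_fst, c.w]
    exact IsPullback.of_hasPullback _ _
  obtain ⟨j, ψ, hj⟩ := exists_map_eq_top D c hc (i := i) U (by
    refine top_le_iff.mp fun y _ ↦ ?_
    change fi.finrank (c.π.app i y) = d
    rw [← Scheme.Hom.finrank_of_isPullback _ _ _ _ hpb]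
    exact h4 y)
  refine ⟨j, ψ ≫ φ, ?_⟩
  let fj : pullback f₀ (D.map (ψ ≫ φ)) ⟶ D.obj j := pullback.snd f₀ (D.map (ψ ≫ φ))
  have hpb' : IsPullback (pullback.lift (pullback.fst f₀ (D.map (ψ ≫ φ)))
      (pullback.snd f₀ (D.map (ψ ≫ φ)) ≫ D.map ψ)
      (by rw [Category.assoc, ← D.map_comp, pullback.condition])) fj fi (D.map ψ) := by
    refine IsPullback.of_right (h₁₂ := pullback.fst f₀ (D.map φ)) (h₂₂ := D.map φ) (v₁₃ := f₀) ?_
      (pullback.lift_snd _ _ _) (IsPullback.of_hasPullback _ _)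
    rw [pullback.lift_fst, ← D.map_comp]
    exact IsPullback.of_hasPullback _ _
  refine ⟨⟨MorphismProperty.of_isPullback hpb' hfin', MorphismProperty.of_isPullback hpb' hflat',
    MorphismProperty.of_isPullback hpb' hfp⟩, fun y ↦ ?_⟩
  rw [Scheme.Hom.finrank_of_isPullback _ _ _ _ hpb']
  exact hj.ge (show y ∈ (⊤ : (D.obj j).Opens) from trivial)

end K340.Degree
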