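import Groth.Agent.Lim.K340.Descend
import Groth.Agent.Ega43.LimSurj

/-!
# Descent of pointwise properties along limits

Let `Pt f x` be a property of a point `x` of the source of a morphism `f`, compatible with arbitrary base change.
If the locus of `Pt` is open, or if it is locally constructible, then "`Pt` holds at all points" descends
from a cofiltered limit to a stage.
-/

set_option autoImplicit false
set_option backward.isDefEq.respectTransparency false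
universe u
open CategoryTheory AlgebraicGeometry Limits

namespace K340.Locus

open Groth.Agent.Ega43.LimRed Groth.Agent.Ega43.LimBC

/-- Compatibility of a pointwise property with base change. -/
def BC (Q : MorphismProperty Scheme.{u}) (Pt : ∀ {X Y : Scheme.{u}} (_ : X ⟶ Y), X → Prop) : Prop :=
  ∀ {X' X Y' Y : Scheme.{u}} {g' : X' ⟶ X} {f' : X' ⟶ Y'} {f : X ⟶ Y} {g : Y' ⟶ Y},
    IsPullback g' f' f g → Q f → ∀ x' : X', Pt f' x' ↔ Pt f (g' x')

theorem descendsOne_of_isOpen {Q : MorphismProperty Scheme.{u}} [Q.IsStableUnderBaseChange]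
    (Pt : ∀ {X Y : Scheme.{u}} (_ : X ⟶ Y), X → Prop)
    (hopen : ∀ {X Y : Scheme.{u}} (f : X ⟶ Y), Q f → IsOpen {x | Pt f x}) (hbc : BC Q Pt) :
    DescendsOne Q (fun X _ f ↦ ∀ x : X, Pt f x) := by
  intro I _ _ D c hc _ _ _ i₀ X₀ f₀ hQ _ _ h
  let E := bcDiagram D i₀ f₀
  let e := bcCone D c i₀ f₀
  have he : IsLimit e := isLimitBcCone D c i₀ f₀ hc
  let j₀ : Over i₀ := Over.mk (𝟙 i₀)
  have hE1 : ∀ (i j : Over i₀) (f : i ⟶ j), IsAffineHom (E.map f) := fun i j f ↦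
    isAffineHom_bcDiagram_map D i₀ f₀ f
  have hE2 (j : Over i₀) : CompactSpace (E.obj j) := by
    have : QuasiCompact (pullback.snd f₀ (D.map j.hom)) := MorphismProperty.pullback_snd _ _ inferInstance
    exact QuasiCompact.compactSpace_of_compactSpace (pullback.snd f₀ (D.map j.hom))
  let s₀ : E.obj j₀ ⟶ D.obj i₀ := pullback.snd f₀ (D.map (𝟙 i₀))
  have hs₀ : Q s₀ := Q.pullback_snd _ _ hQ
  let U : (E.obj j₀).Opens := ⟨{x | Pt s₀ x}, hopen s₀ hs₀⟩
  obtain ⟨j, φ, hj⟩ := exists_map_eq_top E e he (i := j₀) U (by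
    refine top_le_iff.mp fun x _ ↦ ?_
    exact (hbc (isPullback_π D c i₀ f₀ j₀) hs₀ x).mp (h x))
  refine ⟨j.left, j.hom, fun x ↦ ?_⟩
  exact (hbc (isPullback_map D i₀ f₀ φ) hs₀ x).mpr
    (hj.ge (show x ∈ (⊤ : (E.obj j).Opens) from trivial))

theorem descendsOne_of_isLocallyConstructible {Q : MorphismProperty Scheme.{u}}
    [Q.IsStableUnderBaseChange]
    (Pt : ∀ {X Y : Scheme.{u}} (_ : X ⟶ Y), X → Prop)
    (hcons : ∀ {X Y : Scheme.{u}} (f : X ⟶ Y), Q f → Topology.IsLocallyConstructible {x | Pt f x})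
    (hbc : BC Q Pt) :
    DescendsOne Q (fun X _ f ↦ ∀ x : X, Pt f x) := by
  intro I _ _ D c hc _ _ _ i₀ X₀ f₀ hQ _ _ h
  let E := bcDiagram D i₀ f₀
  let e := bcCone D c i₀ f₀
  have he : IsLimit e := isLimitBcCone D c i₀ f₀ hc
  let j₀ : Over i₀ := Over.mk (𝟙 i₀)
  have hE1 : ∀ (i j : Over i₀) (f : i ⟶ j), IsAffineHom (E.map f) := fun i j f ↦
    isAffineHom_bcDiagram_map D i₀ f₀ f
  let s₀ : E.obj j₀ ⟶ D.obj i₀ := pullback.snd f₀ (D.map (𝟙 i₀))
  have hs₀ : Q s₀ := Q.pullback_snd _ _ hQ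
  have hqc : QuasiCompact s₀ := MorphismProperty.pullback_snd _ _ inferInstance
  have hqs : QuasiSeparated s₀ := MorphismProperty.pullback_snd _ _ inferInstance
  have : CompactSpace (E.obj j₀) := QuasiCompact.compactSpace_of_compactSpace s₀
  have : QuasiSeparatedSpace (E.obj j₀) := quasiSeparatedSpace_of_quasiSeparated s₀
  have hT : Topology.IsConstructible {x : E.obj j₀ | Pt s₀ x}ᶜ :=
    (hcons s₀ hs₀).isConstructible.compl
  obtain ⟨j, φ, hj⟩ :=
    Groth.Agent.Ega43.LimSurj.exists_preimage_eq_empty_of_isConstructible E e he j₀ _ hT (by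
      refine Set.eq_empty_iff_forall_notMem.mpr fun x hx ↦ hx ?_
      exact (hbc (isPullback_π D c i₀ f₀ j₀) hs₀ x).mp (h x))
  refine ⟨j.left, j.hom, fun x ↦ ?_⟩
  refine (hbc (isPullback_map D i₀ f₀ φ) hs₀ x).mpr ?_
  by_contra hx
  exact (Set.eq_empty_iff_forall_notMem.mp hj) x hx

/-- `Q` together with the pointwise property at all points. -/
def All (Q : MorphismProperty Scheme.{u}) (Pt : ∀ {X Y : Scheme.{u}} (_ : X ⟶ Y), X → Prop) :
    MorphismProperty Scheme.{u} := fun X _ f ↦ Q f ∧ ∀ x : X, Pt f x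

theorem all_isStableUnderBaseChange {Q : MorphismProperty Scheme.{u}} [Q.IsStableUnderBaseChange]
    {Pt : ∀ {X Y : Scheme.{u}} (_ : X ⟶ Y), X → Prop} (hbc : BC Q Pt) :
    (All Q Pt).IsStableUnderBaseChange :=
  ⟨fun h hf ↦ ⟨Q.of_isPullback h hf.1, fun x ↦ (hbc h hf.1 x).mpr (hf.2 _)⟩⟩

theorem descendsOne_all {Q : MorphismProperty Scheme.{u}} [Q.IsStableUnderBaseChange]
    {Pt : ∀ {X Y : Scheme.{u}} (_ : X ⟶ Y), X → Prop}
    (H : DescendsOne Q (fun X _ f ↦ ∀ x : X, Pt f x)) : DescendsOne Q (All Q Pt) := by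
  intro I _ _ D c hc _ _ _ i₀ X₀ f₀ hQ _ _ h
  obtain ⟨i, φ, hi⟩ := H D c hc i₀ f₀ hQ h.2
  exact ⟨i, φ, Q.pullback_snd _ _ hQ, hi⟩

/-- The usual shape of a descent statement, for a pointwise property with open locus. -/
theorem exists_of_isOpen {Q : MorphismProperty Scheme.{u}} [Q.IsStableUnderBaseChange]
    (Pt : ∀ {X Y : Scheme.{u}} (_ : X ⟶ Y), X → Prop)
    (hloc : (∀ {X Y : Scheme.{u}} (f : X ⟶ Y), Q f → IsOpen {x | Pt f x}) ∨
      (∀ {X Y : Scheme.{u}} (f : X ⟶ Y), Q f → Topology.IsLocallyConstructible {x | Pt f x}))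
    (hbc : BC Q Pt)
    {I : Type u} [SmallCategory I] [IsCofiltered I]
    (D : I ⥤ Scheme.{u}) (c : Limits.Cone D) (hc : Limits.IsLimit c)
    [∀ (i j : I) (f : i ⟶ j), IsAffineHom (D.map f)] (i₀ : I) [CompactSpace (D.obj i₀)]
    [QuasiSeparatedSpace (D.obj i₀)] {X₀ Y₀ : Scheme.{u}} (f₀ : X₀ ⟶ Y₀) (g₀ : Y₀ ⟶ D.obj i₀)
    [CompactSpace X₀] [QuasiSeparatedSpace X₀] [CompactSpace Y₀] [QuasiSeparatedSpace Y₀]
    (hQ : Q f₀)
    {X Y : Scheme.{u}} (f : X ⟶ Y) (g : Y ⟶ c.pt) (qY : Y ⟶ Y₀) (qX : X ⟶ X₀)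
    (hY : IsPullback qY g g₀ (c.π.app i₀)) (hX : IsPullback qX f f₀ qY) (hf : ∀ x : X, Pt f x) :
    ∃ (i : I) (φ : i ⟶ i₀) (Xi Yi : Scheme.{u}) (fi : Xi ⟶ Yi) (gi : Yi ⟶ D.obj i) (pY : Yi ⟶ Y₀)
      (pX : Xi ⟶ X₀), IsPullback pY gi g₀ (D.map φ) ∧ IsPullback pX fi f₀ pY ∧
        ∀ x : Xi, Pt fi x := by
  have h1 : (All Q Pt).IsStableUnderBaseChange := all_isStableUnderBaseChange hbc
  have h2 : (All Q Pt).RespectsIso := MorphismProperty.IsStableUnderBaseChange.respectsIso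
  have h3 : Q.RespectsIso := MorphismProperty.IsStableUnderBaseChange.respectsIso
  have H : DescendsOne Q (All Q Pt) := by
    obtain h | h := hloc
    · exact descendsOne_all (descendsOne_of_isOpen Pt h hbc)
    · exact descendsOne_all (descendsOne_of_isLocallyConstructible Pt h hbc)
  obtain ⟨i, φ, Xi, Yi, fi, gi, pY, pX, h4, h5, h6⟩ :=
    Descend.exists_of_one H D c hc i₀ f₀ g₀ hQ f g qY qX hY hX ⟨Q.of_isPullback hX hQ, hf⟩
  exact ⟨i, φ, Xi, Yi, fi, gi, pY, pX, h4, h5, h6.2⟩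

end K340.Locus
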