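import Groth.Prelude.Def_Found
import Mathlib.RingTheory.Localization.AsSubring
import Mathlib.RingTheory.Ideal.GoingUp
import Mathlib.RingTheory.Jacobson.Ring
import Mathlib.RingTheory.IntegralClosure.IntegrallyClosed
import Mathlib.RingTheory.LocalRing.ResidueField.Fiber
import Mathlib.RingTheory.Ideal.MinimalPrime.Noetherian
import Mathlib.RingTheory.FiniteStability
import Mathlib.RingTheory.Localization.Finiteness
import Mathlib.RingTheory.Localization.InvSubmonoid

/-!
# Normal curves of finite type through a pair of points over a Nagata ring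

Algebraic core of the valuative criterion over a Nagata base with curves as test objects.
-/

set_option autoImplicit false
universe u

open scoped TensorProduct

namespace K340.NagAlg

/-- A point of the fibre with finite residue field extension. -/
theorem exists_point {R : Type u} [CommRing R] (P : Ideal R) [P.IsPrime]
    (B : Type u) [CommRing B] [Algebra R B] [Algebra.FiniteType R B] (Q : Ideal B) [Q.IsPrime]
    (hQ : Q.comap (algebraMap R B) = P) :
    ∃ (L : Type u) (_ : Field L) (_ : Algebra P.ResidueField L) (_ : Algebra R L)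
      (_ : IsScalarTower R P.ResidueField L), FiniteDimensional P.ResidueField L ∧
      Nonempty (B →ₐ[R] L) := by
  have hne : Nontrivial (P.ResidueField ⊗[R] B) := by
    let f : P.ResidueField ⊗[R] B →ₐ[R] Q.ResidueField :=
      Algebra.TensorProduct.lift (Ideal.ResidueField.mapₐ P Q (Algebra.ofId R B) hQ.symm)
        (IsScalarTower.toAlgHom R B Q.ResidueField) (fun _ _ ↦ .all _ _)
    exact f.toRingHom.domain_nontrivial
  obtain ⟨n, hn⟩ := Ideal.exists_maximal (P.ResidueField ⊗[R] B)
  let L := (P.ResidueField ⊗[R] B) ⧸ n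
  let : Field L := Ideal.Quotient.field n
  have : Algebra.FiniteType P.ResidueField (P.ResidueField ⊗[R] B) := inferInstance
  have : Algebra.FiniteType P.ResidueField L :=
    Algebra.FiniteType.of_surjective (Ideal.Quotient.mkₐ P.ResidueField n)
      (Ideal.Quotient.mkₐ_surjective _ _)
  refine ⟨L, inferInstance, inferInstance, inferInstance, inferInstance,
    finite_of_finite_type_of_isJacobsonRing _ _, ⟨?_⟩⟩
  exact (IsScalarTower.toAlgHom R (P.ResidueField ⊗[R] B) L).comp Algebra.TensorProduct.includeRight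

/-- An N-2 domain has finite integral closure in any finite extension of any fraction field. -/
theorem finite_integralClosure {A : Type u} [CommRing A] [IsDomain A] (hA : CAlg.IsN2 A)
    (K L : Type u) [Field K] [Algebra A K] [IsFractionRing A K] [Field L] [Algebra K L]
    [FiniteDimensional K L] [Algebra A L] [IsScalarTower A K L] :
    Module.Finite A ↥(integralClosure A L) := by
  let i : FractionRing A ≃ₐ[A] K := FractionRing.algEquiv A K
  let _ : Algebra (FractionRing A) L := ((algebraMap K L).comp (i : FractionRing A →+* K)).toAlgebra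
  have : IsScalarTower A (FractionRing A) L := IsScalarTower.of_algebraMap_eq (fun x => by
    change _ = algebraMap K L (i (algebraMap A (FractionRing A) x))
    rw [AlgEquiv.commutes, ← IsScalarTower.algebraMap_apply])
  let _ : Algebra (FractionRing A) K := (i : FractionRing A →+* K).toAlgebra
  have : IsScalarTower (FractionRing A) K L := IsScalarTower.of_algebraMap_eq (fun x => rfl)
  have : Module.Finite (FractionRing A) K :=
    Module.Finite.of_surjective (Algebra.linearMap (FractionRing A) K) i.surjective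
  exact hA L (Module.Finite.trans K L)

/-- A suitable element outside a maximal ideal. -/
theorem exists_elem {C₀ : Type u} [CommRing C₀] [IsDomain C₀] [IsNoetherianRing C₀]
    (c₀ : Ideal C₀) [c₀.IsMaximal] (hc : ∀ q : Ideal C₀, q.IsPrime → q ≤ c₀ → q = ⊥ ∨ q = c₀)
    (s₀ : C₀) (hs₀ : s₀ ≠ 0) :
    ∃ h : C₀, h ∉ c₀ ∧ ∀ q : Ideal C₀, q.IsPrime → h ∉ q → s₀ ∈ q → q = c₀ := by
  classical
  have hfin : (Ideal.span {s₀}).minimalPrimes.Finite := Ideal.finite_minimalPrimes_of_isNoetherianRing _ _
  let T : Finset (Ideal C₀) := hfin.toFinset.filter (fun q ↦ ¬ q ≤ c₀)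
  have hJ : ¬ T.inf id ≤ c₀ := by
    intro hle
    obtain ⟨q, hq, hqc⟩ := (Ideal.IsPrime.inf_le' (s := T) (f := id) inferInstance).mp hle
    exact (Finset.mem_filter.mp hq).2 hqc
  obtain ⟨h, hhJ, hhc⟩ := SetLike.not_le_iff_exists.mp hJ
  refine ⟨h, hhc, fun q hq hhq hsq ↦ ?_⟩
  obtain ⟨p, hp, hpq⟩ := Ideal.exists_minimalPrimes_le (I := Ideal.span {s₀}) (J := q)
    ((Ideal.span_singleton_le_iff_mem _).mpr hsq)
  have hpc : p ≤ c₀ := by
    by_contra hpc
    have : p ∈ T := Finset.mem_filter.mpr ⟨hfin.mem_toFinset.mpr hp, hpc⟩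
    exact hhq (hpq ((Finset.inf_le (f := id) this) hhJ))
  have hps : s₀ ∈ p := hp.1.2 (Ideal.mem_span_singleton_self s₀)
  rcases hc p hp.1.1 hpc with h1 | h1
  · rw [h1, Ideal.mem_bot] at hps
    exact absurd hps hs₀
  · exact ((Ideal.IsMaximal.eq_of_le ‹_› hq.ne_top (h1 ▸ hpq))).symm


/-- The integral closure in a finite extension of the residue field at `P`. -/
theorem exists_integral {R : Type u} [CommRing R] (hR : CAlg.IsNagata R) (P m : Ideal R)
    [P.IsPrime] [m.IsMaximal] (hPm : P < m)
    (hbetween : ∀ q : Ideal R, q.IsPrime → P ≤ q → q ≤ m → q = P ∨ q = m)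
    (B : Type u) [CommRing B] [Algebra R B] [Algebra.FiniteType R B] (Q : Ideal B) [Q.IsPrime]
    (hQ : Q.comap (algebraMap R B) = P) :
    ∃ (C₀ : Type u) (_ : CommRing C₀) (_ : IsDomain C₀) (_ : Algebra R C₀) (L : Type u)
      (_ : Field L) (_ : Algebra C₀ L) (_ : IsFractionRing C₀ L) (_ : Algebra R L)
      (_ : IsScalarTower R C₀ L) (c₀ : Ideal C₀),
      Algebra.FiniteType R C₀ ∧ IsIntegrallyClosed C₀ ∧ c₀.IsMaximal ∧ c₀ ≠ ⊥ ∧
      (∀ q : Ideal C₀, q.IsPrime → q ≤ c₀ → q = ⊥ ∨ q = c₀) ∧
      c₀.comap (algebraMap R C₀) = m ∧ Nonempty (B →ₐ[R] L) := by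
  obtain ⟨L, _, _, _, _, hfin, hBL⟩ := exists_point P B Q hQ
  let _ : Algebra (R ⧸ P) L :=
    ((algebraMap P.ResidueField L).comp (algebraMap (R ⧸ P) P.ResidueField)).toAlgebra
  have : IsScalarTower (R ⧸ P) P.ResidueField L := IsScalarTower.of_algebraMap_eq (fun x ↦ rfl)
  have : IsScalarTower R (R ⧸ P) L := IsScalarTower.of_algebraMap_eq (fun x ↦ by
    rw [IsScalarTower.algebraMap_apply R P.ResidueField L,
      IsScalarTower.algebraMap_apply R (R ⧸ P) P.ResidueField]
    rfl)
  have hN := hR.1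
  have hfinC : Module.Finite (R ⧸ P) (integralClosure (R ⧸ P) L) :=
    finite_integralClosure (hR.2 P) P.ResidueField L
  let C₀ := ↥(integralClosure (R ⧸ P) L)
  have hfr : IsFractionRing C₀ L := integralClosure.isFractionRing_of_finite_extension P.ResidueField L
  have hic : IsIntegrallyClosed C₀ := integralClosure.isIntegrallyClosedOfFiniteExtension P.ResidueField
  have hint : Algebra.IsIntegral (R ⧸ P) C₀ := inferInstance
  have hinj : Function.Injective (algebraMap (R ⧸ P) C₀) := by
    have h1 : Function.Injective (algebraMap (R ⧸ P) L) := by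
      rw [IsScalarTower.algebraMap_eq (R ⧸ P) P.ResidueField L]
      exact (algebraMap P.ResidueField L).injective.comp (IsFractionRing.injective (R ⧸ P) P.ResidueField)
    rw [IsScalarTower.algebraMap_eq (R ⧸ P) C₀ L, RingHom.coe_comp] at h1
    exact Function.Injective.of_comp h1
  have hsurj : Function.Surjective (Ideal.Quotient.mk P) := Ideal.Quotient.mk_surjective
  have hker : RingHom.ker (Ideal.Quotient.mk P) ≤ m := by rw [Ideal.mk_ker]; exact hPm.le
  have hcm : (m.map (Ideal.Quotient.mk P)).comap (Ideal.Quotient.mk P) = m := by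
    rw [Ideal.comap_map_of_surjective _ hsurj, ← RingHom.ker_eq_comap_bot, sup_eq_left]
    exact hker
  have hmm : (m.map (Ideal.Quotient.mk P)).IsMaximal :=
    (Ideal.map_eq_top_or_isMaximal_of_surjective _ hsurj ‹_›).resolve_left (fun h ↦ by
      rw [h, Ideal.comap_top] at hcm
      exact (Ideal.IsMaximal.ne_top ‹m.IsMaximal›) hcm.symm)
  obtain ⟨c₀, hc₀, hcc₀⟩ := Ideal.exists_ideal_over_maximal_of_isIntegral (S := C₀)
    (m.map (Ideal.Quotient.mk P)) (by
      rw [(RingHom.injective_iff_ker_eq_bot _).mp hinj]; exact bot_le)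
  have hmap : ∀ q : Ideal C₀, q.comap (algebraMap R C₀) =
      (q.comap (algebraMap (R ⧸ P) C₀)).comap (Ideal.Quotient.mk P) := by
    intro q
    rw [Ideal.comap_comap, IsScalarTower.algebraMap_eq R (R ⧸ P) C₀]
    rfl
  refine ⟨C₀, inferInstance, inferInstance, inferInstance, L, inferInstance, inferInstance, hfr,
    inferInstance, inferInstance, c₀, ?_, hic, hc₀, ?_, ?_, ?_, hBL⟩
  · have : Algebra.FiniteType (R ⧸ P) C₀ := inferInstance
    exact Algebra.FiniteType.trans (S := R ⧸ P) inferInstance this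
  · rintro rfl
    have h1 : (m.map (Ideal.Quotient.mk P)) = ⊥ := by
      rw [← hcc₀, ← RingHom.ker_eq_comap_bot, (RingHom.injective_iff_ker_eq_bot _).mp hinj]
    rw [h1, ← RingHom.ker_eq_comap_bot, Ideal.mk_ker] at hcm
    exact hPm.ne hcm
  · intro q hq hqc
    have h1 : P ≤ q.comap (algebraMap R C₀) := by
      rw [hmap]
      refine le_trans (le_of_eq ?_) (Ideal.comap_mono bot_le)
      rw [← RingHom.ker_eq_comap_bot, Ideal.mk_ker]
    have h2 : q.comap (algebraMap R C₀) ≤ m := by
      conv_rhs => rw [← hcm, ← hcc₀]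
      rw [hmap]
      exact Ideal.comap_mono (Ideal.comap_mono hqc)
    rcases hbetween _ inferInstance h1 h2 with h | h
    · left
      have h3 : q.comap (algebraMap (R ⧸ P) C₀) = ⊥ := by
        apply Ideal.comap_injective_of_surjective _ hsurj
        rw [← hmap, h, ← RingHom.ker_eq_comap_bot, Ideal.mk_ker]
      exact Ideal.eq_bot_of_comap_eq_bot h3
    · right
      by_contra hne
      have hlt : q < c₀ := lt_of_le_of_ne hqc hne
      have h4 := Ideal.IsIntegral.comap_lt_comap (R := R ⧸ P) hlt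
      rw [hcc₀] at h4
      have h5 : q.comap (algebraMap (R ⧸ P) C₀) = m.map (Ideal.Quotient.mk P) := by
        apply Ideal.comap_injective_of_surjective _ hsurj
        rw [← hmap, h, hcm]
      exact h4.ne h5
  · rw [hmap, hcc₀, hcm]

open nonZeroDivisors in
/-- Shrinking the curve so that a given denominator only vanishes at the point `c`. -/
theorem exists_shrink {R C₀ L : Type u} [CommRing R] [CommRing C₀] [IsDomain C₀] [Algebra R C₀]
    [Field L] [Algebra C₀ L] [IsFractionRing C₀ L] [Algebra R L] [IsScalarTower R C₀ L]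
    [Algebra.FiniteType R C₀] [IsNoetherianRing C₀] [IsIntegrallyClosed C₀]
    (c₀ : Ideal C₀) [c₀.IsMaximal] (hne : c₀ ≠ ⊥)
    (hc : ∀ q : Ideal C₀, q.IsPrime → q ≤ c₀ → q = ⊥ ∨ q = c₀)
    (B : Type u) [CommRing B] [Algebra R B] [Algebra.FiniteType R B] (ψ : B →ₐ[R] L) :
    ∃ (C : Type u) (_ : CommRing C) (_ : IsDomain C) (_ : Algebra R C) (c : Ideal C) (s : C)
      (D : Type u) (_ : CommRing D) (_ : Algebra C D) (_ : Algebra R D) (_ : IsScalarTower R C D),
      Algebra.FiniteType R C ∧ IsIntegrallyClosed C ∧ c.IsMaximal ∧ c ≠ ⊥ ∧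
      (∀ q : Ideal C, q.IsPrime → q ≤ c → q = ⊥ ∨ q = c) ∧
      c.comap (algebraMap R C) = c₀.comap (algebraMap R C₀) ∧
      s ≠ 0 ∧ (∀ q : Ideal C, q.IsPrime → s ∈ q → q = c) ∧
      IsLocalization.Away s D ∧ Nonempty (B →ₐ[R] D) := by
  classical
  obtain ⟨bs, hbs⟩ := ‹Algebra.FiniteType R B›
  obtain ⟨⟨s₀, hs₀⟩, hs₀'⟩ := IsLocalization.exist_integer_multiples_of_finset C₀⁰ (bs.image ψ)
  have hs₀0 : s₀ ≠ 0 := nonZeroDivisors.ne_zero hs₀
  obtain ⟨h, hhc, hh⟩ := exists_elem c₀ hc s₀ hs₀0
  have hh0 : h ≠ 0 := fun h0 ↦ hhc (h0 ▸ zero_mem _)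
  have hpow : Submonoid.powers h ≤ C₀⁰ := powers_le_nonZeroDivisors_of_noZeroDivisors hh0
  let C := ↥(Localization.subalgebra.ofField L (Submonoid.powers h) hpow)
  have hloc : IsLocalization.Away h C := Localization.subalgebra.isLocalization_ofField L _ hpow
  have hic : IsIntegrallyClosed C := isIntegrallyClosed_of_isLocalization C (Submonoid.powers h) hpow
  let s : C := algebraMap C₀ C s₀
  have hinj : Function.Injective (algebraMap C₀ C) := IsLocalization.injective C hpow
  have hs : s ≠ 0 := by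
    intro h0
    exact hs₀0 (hinj (h0.trans (map_zero _).symm))
  have hpow' : Submonoid.powers s ≤ C⁰ := powers_le_nonZeroDivisors_of_noZeroDivisors hs
  let D := ↥(Localization.subalgebra.ofField L (Submonoid.powers s) hpow')
  have hlocD : IsLocalization.Away s D := Localization.subalgebra.isLocalization_ofField L _ hpow'
  have hdisj : Disjoint (Submonoid.powers h : Set C₀) (c₀ : Set C₀) := by
    rw [Set.disjoint_left]
    rintro _ ⟨n, rfl⟩ hn
    exact hhc (Ideal.IsPrime.mem_of_pow_mem inferInstance n hn)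
  let c : Ideal C := c₀.map (algebraMap C₀ C)
  have hcc : c.comap (algebraMap C₀ C) = c₀ :=
    IsLocalization.under_map_of_isPrime_disjoint (Submonoid.powers h) C inferInstance hdisj
  have hmem : ∀ q : Ideal C, q.IsPrime → h ∉ q.comap (algebraMap C₀ C) := by
    intro q hq hm
    exact hq.ne_top (Ideal.eq_top_of_isUnit_mem _ hm (IsLocalization.Away.algebraMap_isUnit h))
  have hqq : ∀ q : Ideal C, (q.comap (algebraMap C₀ C)).map (algebraMap C₀ C) = q :=
    fun q ↦ IsLocalization.map_under (Submonoid.powers h) C q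
  have hcp : c.IsPrime := IsLocalization.isPrime_of_isPrime_disjoint (Submonoid.powers h) C _ inferInstance hdisj
  refine ⟨C, inferInstance, inferInstance, inferInstance, c, s, D, inferInstance, inferInstance,
    inferInstance, inferInstance, ?_, hic, ?_, ?_, ?_, ?_, hs, ?_, hlocD, ?_⟩
  · have : Algebra.FiniteType C₀ C := IsLocalization.finiteType_of_monoid_fg (Submonoid.powers h) C
    exact Algebra.FiniteType.trans (S := C₀) ‹_› this
  · refine ⟨⟨hcp.ne_top, fun J hJ ↦ ?_⟩⟩
    by_contra hJt
    have h1 : c₀ < J.comap (algebraMap C₀ C) := by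
      refine lt_of_le_of_ne ?_ ?_
      · rw [← hcc]; exact Ideal.comap_mono hJ.le
      · intro he
        apply hJ.ne
        rw [← hqq J, ← he]
    have h2 := (Ideal.IsMaximal.out (self := ‹c₀.IsMaximal›)).2 _ h1
    apply hJt
    rw [← hqq J, h2, Ideal.map_top]
  · intro h0
    apply hne
    rw [← hcc, h0, ← RingHom.ker_eq_comap_bot, (RingHom.injective_iff_ker_eq_bot _).mp hinj]
  · intro q hq hqc
    rcases hc (q.comap (algebraMap C₀ C)) inferInstance (by rw [← hcc]; exact Ideal.comap_mono hqc)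
      with h1 | h1
    · left
      rw [← hqq q, h1, Ideal.map_bot]
    · right
      rw [← hqq q, h1]
  · rw [IsScalarTower.algebraMap_eq R C₀ C, ← Ideal.comap_comap, hcc]
  · intro q hq hsq
    have := hh (q.comap (algebraMap C₀ C)) inferInstance (hmem q hq) hsq
    rw [← hqq q, this]
  · have hrange : ∀ b : B, ψ b ∈ (IsScalarTower.toAlgHom R D L).range := by
      have : (⊤ : Subalgebra R B) ≤ (IsScalarTower.toAlgHom R D L).range.comap ψ := by
        rw [← hbs, Algebra.adjoin_le_iff]
        intro b hb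
        obtain ⟨a, ha⟩ := hs₀' (ψ b) (Finset.mem_image_of_mem _ hb)
        change ψ b ∈ (IsScalarTower.toAlgHom R D L).range
        have hu : IsUnit (algebraMap C D s) := IsLocalization.Away.algebraMap_isUnit s
        obtain ⟨v, hv⟩ := hu.exists_left_inv
        refine ⟨v * algebraMap C D (algebraMap C₀ C a), ?_⟩
        change algebraMap D L (v * algebraMap C D (algebraMap C₀ C a)) = ψ b
        rw [map_mul, ← IsScalarTower.algebraMap_apply C D L, ← IsScalarTower.algebraMap_apply C₀ C L,
          ha]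
        change algebraMap D L v * (s₀ • ψ b) = ψ b
        rw [Algebra.smul_def, IsScalarTower.algebraMap_apply C₀ C L,
          IsScalarTower.algebraMap_apply C D L, ← mul_assoc, ← map_mul]
        change algebraMap D L (v * algebraMap C D s) * _ = _
        rw [hv, map_one, one_mul]
      intro b
      exact this (Algebra.mem_top (R := R) (x := b))
    have hinjD : Function.Injective (IsScalarTower.toAlgHom R D L) := Subtype.val_injective
    exact ⟨(AlgEquiv.ofInjective _ hinjD).symm.toAlgHom.comp (ψ.codRestrict _ hrange)⟩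

/-- Main algebraic statement. -/
theorem exists_curve {R : Type u} [CommRing R] (hR : CAlg.IsNagata R) (P m : Ideal R)
    [P.IsPrime] [m.IsMaximal] (hPm : P < m)
    (hbetween : ∀ q : Ideal R, q.IsPrime → P ≤ q → q ≤ m → q = P ∨ q = m)
    (B : Type u) [CommRing B] [Algebra R B] [Algebra.FiniteType R B] (Q : Ideal B) [Q.IsPrime]
    (hQ : Q.comap (algebraMap R B) = P) :
    ∃ (C : Type u) (_ : CommRing C) (_ : IsDomain C) (_ : Algebra R C) (c : Ideal C) (s : C)
      (D : Type u) (_ : CommRing D) (_ : Algebra C D) (_ : Algebra R D) (_ : IsScalarTower R C D),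
      Algebra.FiniteType R C ∧ IsIntegrallyClosed C ∧ c.IsMaximal ∧ c ≠ ⊥ ∧
      (∀ q : Ideal C, q.IsPrime → q ≤ c → q = ⊥ ∨ q = c) ∧
      c.comap (algebraMap R C) = m ∧
      s ≠ 0 ∧ (∀ q : Ideal C, q.IsPrime → s ∈ q → q = c) ∧
      IsLocalization.Away s D ∧ Nonempty (B →ₐ[R] D) := by
  obtain ⟨C₀, _, _, _, L, _, _, _, _, _, c₀, h1, h2, h3, h4, h5, h6, ⟨ψ⟩⟩ :=
    exists_integral hR P m hPm hbetween B Q hQ
  have hN := hR.1
  have : IsNoetherianRing C₀ := Algebra.FiniteType.isNoetherianRing R C₀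
  obtain ⟨C, i1, i2, i3, c, s, D, i4, i5, i6, i7, g1, g2, g3, g4, g5, g6, g7, g8, g9, g10⟩ :=
    exists_shrink (R := R) c₀ h4 h5 B ψ
  exact ⟨C, i1, i2, i3, c, s, D, i4, i5, i6, i7, g1, g2, g3, g4, g5, g6.trans h6, g7, g8, g9, g10⟩

end K340.NagAlg
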