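import Mathlib.RingTheory.Spectrum.Prime.ConstructibleSet
import Groth.Agent.Models.H54.HorAlg

/-!
# Points in the closure of a constructible subset of a Noetherian affine scheme
-/

set_option autoImplicit false
universe u

open PrimeSpectrum

namespace K340.NagPt

/-- A constructible subset contains `V(p) ∩ D(f)` about each of its points `p`. -/
theorem exists_basic {R : Type u} [CommRing R] {E : Set (PrimeSpectrum R)}
    (hE : Topology.IsConstructible E) {p : PrimeSpectrum R} (hp : p ∈ E) :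
    ∃ f : R, f ∉ p.asIdeal ∧ ∀ q : PrimeSpectrum R, p.asIdeal ≤ q.asIdeal → f ∉ q.asIdeal → q ∈ E := by
  obtain ⟨S, rfl⟩ := exists_constructibleSetData_iff.mpr hE
  simp only [ConstructibleSetData.toSet, Set.mem_iUnion] at hp ⊢
  obtain ⟨C, hC, hpC⟩ := hp
  refine ⟨C.f, fun h ↦ hpC.2 ((mem_zeroLocus _ _).mpr (Set.singleton_subset_iff.mpr h)), fun q hq hf ↦
    ⟨C, hC, ?_, fun h ↦ hf (Set.singleton_subset_iff.mp ((mem_zeroLocus _ _).mp h))⟩⟩
  exact (mem_zeroLocus _ _).mpr (((mem_zeroLocus _ _).mp hpC.1).trans hq)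

/-- The closure of a constructible subset consists of specializations. -/
theorem exists_specializes {R : Type u} [CommRing R] {E : Set (PrimeSpectrum R)}
    (hE : Topology.IsConstructible E) {m : PrimeSpectrum R} (hm : m ∈ closure E) :
    ∃ p ∈ E, p ≤ m := by
  obtain ⟨S, _, f, rfl⟩ := exists_range_eq_of_isConstructible hE
  rw [closure_range_comap] at hm
  obtain ⟨P, hP, hPm⟩ := Ideal.exists_minimalPrimes_le (I := RingHom.ker f) (J := m.asIdeal)
    ((mem_zeroLocus _ _).mp hm)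
  obtain ⟨p', h1, -, h2⟩ := Ideal.exists_comap_eq_of_mem_minimalPrimes f (I := ⊥) P hP
  refine ⟨comap f ⟨p', h1⟩, ⟨_, rfl⟩, ?_⟩
  change p'.comap f ≤ m.asIdeal
  rwa [h2]

theorem exists_pair {R : Type u} [CommRing R] [IsNoetherianRing R] {T : Set (PrimeSpectrum R)}
    (hT : Topology.IsConstructible T) {m : PrimeSpectrum R} (hm : m ∈ closure T) (hmT : m ∉ T) :
    ∃ P ∈ T, P < m ∧ ∀ q : Ideal R, q.IsPrime → P.asIdeal ≤ q → q ≤ m.asIdeal →
      q = P.asIdeal ∨ q = m.asIdeal := by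
  obtain ⟨P₀, hP₀, hP₀m⟩ := exists_specializes hT hm
  obtain ⟨b, hb, hbT⟩ := exists_basic hT hP₀
  let 𝒮 : Set (Ideal R) := {q | q.IsPrime ∧ P₀.asIdeal ≤ q ∧ q ≤ m.asIdeal ∧ b ∉ q}
  obtain ⟨P, ⟨hP1, hP2, hP3, hP4⟩, hPmax⟩ := set_has_maximal_iff_noetherian.mpr ‹_› 𝒮
    ⟨P₀.asIdeal, P₀.isPrime, le_rfl, hP₀m, hb⟩
  have hPT : (⟨P, hP1⟩ : PrimeSpectrum R) ∈ T := hbT _ hP2 hP4
  refine ⟨⟨P, hP1⟩, hPT, lt_of_le_of_ne hP3 (fun h ↦ hmT (h ▸ hPT)), fun q hq hPq hqm ↦ ?_⟩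
  by_contra hcon
  obtain ⟨h1, h2⟩ := not_or.mp hcon
  have hPq' : P < q := lt_of_le_of_ne hPq (Ne.symm h1)
  have hqm' : q < m.asIdeal := lt_of_le_of_ne hqm h2
  have hsurj : Function.Surjective (Ideal.Quotient.mk P) := Ideal.Quotient.mk_surjective
  have hcomap : ∀ I : Ideal R, P ≤ I → (I.map (Ideal.Quotient.mk P)).comap (Ideal.Quotient.mk P) = I := by
    intro I hI
    rw [Ideal.comap_map_of_surjective _ hsurj, ← RingHom.ker_eq_comap_bot, sup_eq_left, Ideal.mk_ker]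
    exact hI
  have hbot : (⊥ : Ideal (R ⧸ P)).comap (Ideal.Quotient.mk P) = P := by
    rw [← RingHom.ker_eq_comap_bot, Ideal.mk_ker]
  have hlt : ∀ I J : Ideal (R ⧸ P), I.comap (Ideal.Quotient.mk P) < J.comap (Ideal.Quotient.mk P) →
      I < J := by
    intro I J h
    refine lt_of_le_of_ne ?_ (fun e ↦ h.ne (e ▸ rfl))
    rw [← Ideal.map_comap_of_surjective _ hsurj I, ← Ideal.map_comap_of_surjective _ hsurj J]
    exact Ideal.map_mono h.le
  let m' : Ideal (R ⧸ P) := m.asIdeal.map (Ideal.Quotient.mk P)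
  let q' : Ideal (R ⧸ P) := q.map (Ideal.Quotient.mk P)
  have hm' : m'.IsPrime := Ideal.map_isPrime_of_surjective hsurj (by rw [Ideal.mk_ker]; exact hP3)
  have hq' : q'.IsPrime := Ideal.map_isPrime_of_surjective hsurj (by rw [Ideal.mk_ker]; exact hPq)
  have hlt1 : ⊥ < q' := hlt _ _ (by rw [hbot, hcomap q hPq]; exact hPq')
  have hlt2 : q' < m' := hlt _ _ (by rw [hcomap q hPq, hcomap m.asIdeal hP3]; exact hqm')
  have hht : 2 ≤ m'.height := by
    have a1 := Ideal.height_add_one_le_of_lt_of_isPrime hlt1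
    have a2 := Ideal.height_add_one_le_of_lt_of_isPrime hlt2
    calc (2 : ℕ∞) = 0 + 1 + 1 := by norm_num
      _ ≤ (⊥ : Ideal (R ⧸ P)).height + 1 + 1 := by gcongr; exact zero_le
      _ ≤ q'.height + 1 := by gcongr
      _ ≤ m'.height := a2
  let A := Localization.AtPrime m'
  have hdim : 2 ≤ ringKrullDim A := by
    rw [IsLocalization.AtPrime.ringKrullDim_eq_height m' A]
    exact WithBot.coe_le_coe.mpr hht
  have hinj : Function.Injective (algebraMap (R ⧸ P) A) :=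
    IsLocalization.injective A (Ideal.primeCompl_le_nonZeroDivisors m')
  have hbA : algebraMap (R ⧸ P) A (Ideal.Quotient.mk P b) ≠ 0 := by
    rw [Ne, map_eq_zero_iff _ hinj, Ideal.Quotient.eq_zero_iff_mem]
    exact hP4
  obtain ⟨𝔮, h𝔮, h𝔮1, h𝔮b⟩ := Groth.Agent.Models.H54.HorAlg.exists_prime_height_one hdim _ hbA
  let Q : Ideal R := (𝔮.comap (algebraMap (R ⧸ P) A)).comap (Ideal.Quotient.mk P)
  have hQ : Q.IsPrime := inferInstance
  have hPQ : P ≤ Q := by
    conv_lhs => rw [← hbot]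
    exact Ideal.comap_mono bot_le
  refine hPmax Q ⟨hQ, hP2.trans hPQ, ?_, h𝔮b⟩ (lt_of_le_of_ne hPQ ?_)
  · have e1 : 𝔮 ≤ IsLocalRing.maximalIdeal A := IsLocalRing.le_maximalIdeal h𝔮.ne_top
    have e2 : 𝔮.comap (algebraMap (R ⧸ P) A) ≤ m' := by
      have := Ideal.comap_mono (f := algebraMap (R ⧸ P) A) e1
      exact this.trans (Localization.AtPrime.under_maximalIdeal (I := m')).le
    have := Ideal.comap_mono (f := Ideal.Quotient.mk P) e2
    rwa [hcomap m.asIdeal hP3] at this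
  · intro e
    have e1 : 𝔮.comap (algebraMap (R ⧸ P) A) = ⊥ := by
      apply Ideal.comap_injective_of_surjective _ hsurj
      rw [hbot]
      exact e.symm
    have e2 : 𝔮 = ⊥ := by
      rw [← IsLocalization.map_under m'.primeCompl A 𝔮]
      change (𝔮.comap (algebraMap (R ⧸ P) A)).map _ = _
      rw [e1, Ideal.map_bot]
    rw [e2, Ideal.height_bot] at h𝔮1
    exact zero_ne_one h𝔮1

end K340.NagPt
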