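import Groth.Agent.Lim.K340.NagTest
import Groth.Agent.Lim.K340.NagPt
import Groth.Agent.Lim.K340.NagAlg
import Groth.Agent.S0566
import Groth.Agent.Ega43.UnivClosedAffine
import Groth.Agent.S4367
import Mathlib.RingTheory.DiscreteValuationRing.TFAE
import Mathlib.AlgebraicGeometry.Morphisms.FinitePresentation
import Mathlib.AlgebraicGeometry.Morphisms.UniversallyClosed
import Mathlib.AlgebraicGeometry.Morphisms.ClosedImmersion

/-!
# The valuative criterion with curves over a Nagata base
-/

set_option autoImplicit false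
universe u

open CategoryTheory AlgebraicGeometry Limits Topology

namespace K340.NagCrit

open K340.NagTest

/-- A maximal ideal of an affine open which lies in the closure of the range lies in the range. -/
theorem mem_range {S X Y : Scheme.{u}} [IsLocallyNoetherian S] {q : Y ⟶ S} [LocallyOfFiniteType q]
    {f : X ⟶ Y} [LocallyOfFiniteType f] [QuasiCompact f] (h : Crit q f) (R : Type u) [CommRing R]
    (hR : CAlg.IsNagata R) (j : Spec (CommRingCat.of R) ⟶ Y) [IsOpenImmersion j]
    (m : PrimeSpectrum R) (hm : m.asIdeal.IsMaximal) (hcl : j m ∈ closure (Set.range f)) :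
    j m ∈ Set.range f := by
  by_contra hcon
  have hY : IsLocallyNoetherian Y := LocallyOfFiniteType.isLocallyNoetherian q
  have hfp : LocallyOfFinitePresentation f := LocallyOfFinitePresentation.iff_locallyOfFiniteType.mpr ‹_›
  have hN : IsNoetherianRing R := hR.1
  let T : Set (PrimeSpectrum R) := j ⁻¹' (Set.range f)
  have hlc : IsLocallyConstructible (Set.range f) := by
    rw [← Set.image_univ]
    exact f.isLocallyConstructible_image .univ
  have hT : IsConstructible T :=
    (hlc.preimage_of_isOpenEmbedding j.isOpenEmbedding).isConstructible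
  have hmT : m ∈ closure T := by
    have : closure T = j ⁻¹' (closure (Set.range f)) :=
      (j.isOpenEmbedding.isOpenMap.preimage_closure_eq_closure_preimage j.continuous _).symm
    rw [this]
    exact hcl
  obtain ⟨P, ⟨x, hx⟩, hPm, hbetween⟩ := K340.NagPt.exists_pair hT hmT hcon
  obtain ⟨U, hU, hxU, hUj⟩ := exists_isAffineOpen_mem_and_subset (x := x) (U := f ⁻¹ᵁ j.opensRange)
    (show f x ∈ Set.range j from ⟨P, hx.symm⟩)
  have hrange : Set.range (hU.fromSpec ≫ f) ⊆ Set.range j := by
    rintro _ ⟨z, rfl⟩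
    have : hU.fromSpec z ∈ (U : Set X) := hU.range_fromSpec ▸ ⟨z, rfl⟩
    exact hUj this
  let w : Spec Γ(X, U) ⟶ Spec (CommRingCat.of R) := IsOpenImmersion.lift j (hU.fromSpec ≫ f) hrange
  have hw : w ≫ j = hU.fromSpec ≫ f := IsOpenImmersion.lift_fac _ _ _
  obtain ⟨ψ, hψ⟩ := Spec.map_surjective w
  let _ : Algebra R Γ(X, U) := ψ.hom.toAlgebra
  have hwft : LocallyOfFiniteType w := by
    have : LocallyOfFiniteType (w ≫ j) := by rw [hw]; infer_instance
    exact locallyOfFiniteType_of_comp w j
  have hft : Algebra.FiniteType R Γ(X, U) := by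
    rw [← hψ, HasRingHomProperty.Spec_iff (P := @LocallyOfFiniteType)] at hwft
    exact hwft
  obtain ⟨z, hz⟩ : ∃ z : Spec Γ(X, U), hU.fromSpec z = x := by
    have : x ∈ Set.range hU.fromSpec := by rw [hU.range_fromSpec]; exact hxU
    exact this
  have hzP : w z = P := by
    apply j.isOpenEmbedding.injective
    rw [← Scheme.Hom.comp_apply, hw, Scheme.Hom.comp_apply, hz]
    exact hx
  have hQ : (PrimeSpectrum.asIdeal z).comap (algebraMap R Γ(X, U)) = P.asIdeal := by
    rw [← hzP, ← hψ]
    rfl
  obtain ⟨C, _, _, _, c, s, D, _, _, _, _, g1, g2, g3, g4, g5, g6, g7, g8, g9, ⟨φ⟩⟩ :=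
    K340.NagAlg.exists_curve hR P.asIdeal m.asIdeal hPm hbetween Γ(X, U) (PrimeSpectrum.asIdeal z) hQ
  have key := test (R := R) (B := Γ(X, U)) (C := C) (D := D) h c g4 g5 s g8 φ j hU.fromSpec (by
    rw [← hw, ← hψ]
    rfl)
  apply hcon
  have : m = ⟨c.comap (algebraMap R C), inferInstance⟩ := PrimeSpectrum.ext g6.symm
  change j m ∈ Set.range f
  rw [this]
  exact key

theorem isClosed_range {S X Y : Scheme.{u}} (hS : ∀ W : S.affineOpens, CAlg.IsNagata Γ(S, W))
    {q : Y ⟶ S} [LocallyOfFiniteType q] {f : X ⟶ Y} [LocallyOfFiniteType f] [QuasiCompact f]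
    (h : Crit q f) : IsClosed (Set.range f) := by
  have hSN : IsLocallyNoetherian S := ⟨fun W ↦ (hS W).1⟩
  have hY : IsLocallyNoetherian Y := LocallyOfFiniteType.isLocallyNoetherian q
  have hfp : LocallyOfFinitePresentation f := LocallyOfFinitePresentation.iff_locallyOfFiniteType.mpr ‹_›
  have hlc : IsLocallyConstructible (Set.range f) := by
    rw [← Set.image_univ]
    exact f.isLocallyConstructible_image .univ
  rw [← closure_subset_iff_isClosed]
  intro y hy
  by_contra hyT
  obtain ⟨W, hW, hyW, -⟩ := exists_isAffineOpen_mem_and_subset (x := q y) (U := ⊤) trivial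
  obtain ⟨V, hV, hyV, hVW⟩ := exists_isAffineOpen_mem_and_subset (x := y) (U := q ⁻¹ᵁ W) hyW
  let _ : Algebra Γ(S, W) Γ(Y, V) := (q.appLE W V hVW).hom.toAlgebra
  have hft : Algebra.FiniteType Γ(S, W) Γ(Y, V) := q.finiteType_appLE hW hV hVW
  have hR₀ : CAlg.IsNagata Γ(Y, V) := Groth.Agent.S0566.result _ (hS ⟨W, hW⟩) _
  have hN₀ : IsNoetherianRing Γ(Y, V) := hR₀.1
  let j₀ : Spec Γ(Y, V) ⟶ Y := hV.fromSpec
  obtain ⟨y₀, hy₀⟩ : ∃ y₀, j₀ y₀ = y := by
    have : y ∈ Set.range hV.fromSpec := by rw [hV.range_fromSpec]; exact hyV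
    exact this
  let T : Set (PrimeSpectrum Γ(Y, V)) := j₀ ⁻¹' (Set.range f)
  have hT : IsConstructible T :=
    (hlc.preimage_of_isOpenEmbedding j₀.isOpenEmbedding).isConstructible
  have hcl : closure T = j₀ ⁻¹' (closure (Set.range f)) :=
    (j₀.isOpenEmbedding.isOpenMap.preimage_closure_eq_closure_preimage j₀.continuous _).symm
  have hE : IsConstructible (closure T \ T) := by
    refine .sdiff ?_ hT
    rw [← isConstructible_compl]
    exact (TopologicalSpace.NoetherianSpace.isCompact _).isConstructible isClosed_closure.isOpen_compl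
  have hy1 : j₀ y₀ ∈ closure (Set.range f) := by rw [hy₀]; exact hy
  have hy2 : j₀ y₀ ∉ Set.range f := by rw [hy₀]; exact hyT
  obtain ⟨t, ht, htE⟩ := K340.NagPt.exists_basic hE (p := y₀) ⟨by rw [hcl]; exact hy1, hy2⟩
  let R := Localization.Away t
  have hR : CAlg.IsNagata R := Groth.Agent.S0566.result Γ(Y, V) hR₀ R
  let jt : Spec (CommRingCat.of R) ⟶ Spec Γ(Y, V) :=
    Spec.map (CommRingCat.ofHom (algebraMap Γ(Y, V) R))
  have hjt : IsOpenImmersion jt := IsOpenImmersion.of_isLocalization t
  obtain ⟨y₁, hy₁⟩ : y₀ ∈ Set.range (PrimeSpectrum.comap (algebraMap Γ(Y, V) R)) := by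
    rw [PrimeSpectrum.localization_away_comap_range R t]
    exact ht
  obtain ⟨m, hm, hle⟩ := Ideal.exists_le_maximal y₁.asIdeal y₁.isPrime.ne_top
  let m' : PrimeSpectrum R := ⟨m, hm.isPrime⟩
  have key := htE (PrimeSpectrum.comap (algebraMap Γ(Y, V) R) m') (by
    rw [← hy₁]
    exact Ideal.comap_mono hle) (by
      intro hmem
      exact hm.ne_top (Ideal.eq_top_of_isUnit_mem _ hmem (IsLocalization.Away.algebraMap_isUnit t)))
  have h1 : (jt ≫ j₀) m' ∈ closure (Set.range f) := by
    have := key.1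
    rw [hcl] at this
    exact this
  exact key.2 (mem_range h R hR (jt ≫ j₀) m' hm h1)

theorem crit_closedImmersion {S X Y Z : Scheme.{u}} {q : Y ⟶ S} {f : X ⟶ Y} (h : Crit q f)
    (i : Z ⟶ X) [IsClosedImmersion i] : Crit q (i ≫ f) := by
  intro C r _ _ _ hn c hc hdim U hU u g hg hu k hk
  obtain ⟨l, hl1, hl2⟩ := h C r hn c hc hdim U hU (u ≫ i) g hg (by rw [Category.assoc]; exact hu) k hk
  have hdense : DenseRange (Spec.map (CommRingCat.ofHom (algebraMap (C.presheaf.stalk c)
      (FractionRing (C.presheaf.stalk c))))) := by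
    refine (PrimeSpectrum.denseRange_comap_iff_ker_le_nilRadical _).mpr ?_
    have : RingHom.ker (algebraMap (C.presheaf.stalk c) (FractionRing (C.presheaf.stalk c))) = ⊥ :=
      (RingHom.injective_iff_ker_eq_bot _).mp (IsFractionRing.injective _ _)
    exact this.le.trans bot_le
  have hcl : IsClosed (Set.range i) := i.isClosedEmbedding.isClosed_range
  have hrange : Set.range l ⊆ Set.range i := by
    rintro _ ⟨z, rfl⟩
    have h1 : IsClosed (l ⁻¹' (Set.range i)) := hcl.preimage l.continuous
    have h2 : Set.range (Spec.map (CommRingCat.ofHom (algebraMap (C.presheaf.stalk c)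
      (FractionRing (C.presheaf.stalk c))))) ⊆ l ⁻¹' (Set.range i) := by
      rintro _ ⟨w, rfl⟩
      rw [Set.mem_preimage, ← Scheme.Hom.comp_apply, hl2, ← Category.assoc, Scheme.Hom.comp_apply]
      exact ⟨_, rfl⟩
    exact h1.closure_subset_iff.mpr h2 (hdense z)
  obtain ⟨l', hl'⟩ := Groth.Agent.S4367.result l i hrange
  refine ⟨l', by rw [← Category.assoc, hl', hl1], ?_⟩
  rw [← cancel_mono i, Category.assoc, hl', hl2, Category.assoc]

theorem isClosedMap {S X Y : Scheme.{u}} (hS : ∀ W : S.affineOpens, CAlg.IsNagata Γ(S, W))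
    {q : Y ⟶ S} [LocallyOfFiniteType q] {f : X ⟶ Y} [LocallyOfFiniteType f] [QuasiCompact f]
    (h : Crit q f) : IsClosedMap f := by
  intro T hT
  let i := (Scheme.IdealSheafData.vanishingIdeal ⟨T, hT⟩).subschemeι
  have hr : Set.range i = T := by
    rw [Scheme.IdealSheafData.range_subschemeι, Scheme.IdealSheafData.coe_support_vanishingIdeal]
    rfl
  have : f '' T = Set.range (i ≫ f) := by
    rw [Scheme.Hom.comp_base, TopCat.coe_comp, Set.range_comp, hr]
  rw [this]
  exact isClosed_range hS (crit_closedImmersion h i)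

theorem crit_pullback {S X Y X' Y' : Scheme.{u}} {q : Y ⟶ S} {f : X ⟶ Y} (h : Crit q f)
    {g' : X' ⟶ X} {f' : X' ⟶ Y'} {g : Y' ⟶ Y} (sq : IsPullback g' f' f g) : Crit (g ≫ q) f' := by
  intro C r _ _ _ hn c hc hdim U hU u γ hγ hu k hk
  obtain ⟨l, hl1, hl2⟩ := h C r hn c hc hdim U hU (u ≫ g') (γ ≫ g) (by rw [Category.assoc]; exact hγ)
    (by rw [Category.assoc, sq.w, reassoc_of% hu]) k hk
  refine ⟨sq.lift l (C.fromSpecStalk c ≫ γ) (by rw [hl1, Category.assoc]), sq.lift_snd _ _ _, ?_⟩
  apply sq.hom_ext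
  · rw [Category.assoc, sq.lift_fst, hl2, Category.assoc]
  · rw [Category.assoc, sq.lift_snd, Category.assoc, hu, reassoc_of% hk]

/-- Sufficiency of the test with pointed curves. -/
theorem universallyClosed {S X Y : Scheme.{u}} (hS : ∀ W : S.affineOpens, CAlg.IsNagata Γ(S, W))
    {q : Y ⟶ S} [LocallyOfFiniteType q] {f : X ⟶ Y} [LocallyOfFiniteType f] [QuasiCompact f]
    (h : Crit q f) : UniversallyClosed f :=
  Groth.Agent.Ega43.UnivClosedAffine.universallyClosed_of_isClosedMap_affineSpace f fun n _ ↦ by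
    have hsq := AffineSpace.isPullback_map (n := n) f
    have h1 : LocallyOfFiniteType (AffineSpace.map n f) :=
      MorphismProperty.of_isPullback hsq.flip ‹_›
    have h2 : QuasiCompact (AffineSpace.map n f) := MorphismProperty.of_isPullback hsq.flip ‹_›
    exact isClosedMap hS (crit_pullback h hsq.flip)

/-- The local ring of a locally Noetherian scheme at a normal one-dimensional point is a valuation ring. -/
theorem valuationRing {A : Type u} [CommRing A] [IsDomain A] [IsLocalRing A] [IsNoetherianRing A]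
    [IsIntegrallyClosed A] (hdim : ringKrullDim A = 1) : ValuationRing A := by
  have htfae := (tfae_of_isNoetherianRing_of_isLocalRing_of_isDomain A).out 3 1
  refine htfae.mp ⟨inferInstance, fun P hP hPp ↦ ?_⟩
  by_contra hne
  have h1 := Ideal.height_add_one_le_of_lt_of_isPrime (bot_lt_iff_ne_bot.mpr hP)
  have h2 := Ideal.height_add_one_le_of_lt_of_isPrime
    (lt_of_le_of_ne (IsLocalRing.le_maximalIdeal hPp.ne_top) hne)
  have h3 : (IsLocalRing.maximalIdeal A).height = 1 := by
    have := IsLocalRing.maximalIdeal_height_eq_ringKrullDim (R := A)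
    rw [hdim] at this
    exact_mod_cast this
  rw [h3] at h2
  rw [Ideal.height_bot, zero_add] at h1
  have h4 : (1 : ℕ∞) + 1 ≤ 1 := (add_le_add_left h1 1).trans h2
  exact absurd h4 (by decide)

/-- Necessity of the test with pointed curves. -/
theorem crit_of_universallyClosed {S X Y : Scheme.{u}} [IsLocallyNoetherian S] {q : Y ⟶ S}
    {f : X ⟶ Y} [UniversallyClosed f] : Crit q f := by
  intro C r _ _ _ hn c hc hdim U hU u g hg hu k hk
  have hCN : IsLocallyNoetherian C := LocallyOfFiniteType.isLocallyNoetherian r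
  have := hn c
  have hdom : IsDomain (C.presheaf.stalk c) := inferInstance
  have hv : ValuationRing (C.presheaf.stalk c) := valuationRing hdim
  let sq : ValuativeCommSq f :=
    { R := C.presheaf.stalk c
      commRing := inferInstance
      domain := hdom
      valuationRing := hv
      K := FractionRing (C.presheaf.stalk c)
      i₁ := k ≫ u
      i₂ := C.fromSpecStalk c ≫ g
      commSq := ⟨by rw [Category.assoc, hu, reassoc_of% hk]⟩ }
  have hE : ValuativeCriterion.Existence f := by
    have : UniversallyClosed f := ‹_›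
    rw [UniversallyClosed.eq_valuativeCriterion] at this
    exact this.1
  have hl := hE sq
  let l : Spec (C.presheaf.stalk c) ⟶ X := sq.commSq.lift
  exact ⟨l, sq.commSq.fac_right, sq.commSq.fac_left⟩

end K340.NagCrit
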