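import Groth.Agent.Lim.K340.NagCrit
import Mathlib.AlgebraicGeometry.Morphisms.Separated

/-!
# Separatedness over a Nagata base tested with pointed curves
-/

set_option autoImplicit false
universe u

open CategoryTheory AlgebraicGeometry Limits Topology

namespace K340.NagSep

open K340.NagTest

/-- Uniqueness of lifts for pointed normal curves of finite type over `S`. -/
def UCrit {S X Y : Scheme.{u}} (q : Y ⟶ S) (f : X ⟶ Y) : Prop :=
  ∀ (C : Scheme.{u}) (r : C ⟶ S) [IsIntegral C] [LocallyOfFiniteType r] [QuasiCompact r],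
    (∀ x : C, IsIntegrallyClosed (C.presheaf.stalk x)) →
    ∀ (c : C), IsClosed ({c} : Set C) → ringKrullDim (C.presheaf.stalk c) = 1 →
    ∀ (U : C.Opens), (U : Set C) = {c}ᶜ →
    ∀ (u : (U : Scheme.{u}) ⟶ X) (g : C ⟶ Y), g ≫ q = r → u ≫ f = U.ι ≫ g →
    ∀ (k : Spec (CommRingCat.of (FractionRing (C.presheaf.stalk c))) ⟶ (U : Scheme.{u})),
      k ≫ U.ι = Spec.map (CommRingCat.ofHom (algebraMap (C.presheaf.stalk c)
        (FractionRing (C.presheaf.stalk c)))) ≫ C.fromSpecStalk c →
    ∀ l l' : Spec (C.presheaf.stalk c) ⟶ X,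
      l ≫ f = C.fromSpecStalk c ≫ g →
      Spec.map (CommRingCat.ofHom (algebraMap (C.presheaf.stalk c) (FractionRing (C.presheaf.stalk c)))) ≫ l =
        k ≫ u →
      l' ≫ f = C.fromSpecStalk c ≫ g →
      Spec.map (CommRingCat.ofHom (algebraMap (C.presheaf.stalk c) (FractionRing (C.presheaf.stalk c)))) ≫ l' =
        k ≫ u → l = l'

theorem crit_diagonal {S X Y : Scheme.{u}} {q : Y ⟶ S} {f : X ⟶ Y} (h : UCrit q f) :
    Crit (pullback.fst f f ≫ f ≫ q) (pullback.diagonal f) := by
  intro C r _ _ _ hn c hc hdim U hU u g hg hu k hk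
  have e1 : u = U.ι ≫ g ≫ pullback.fst f f := by
    rw [← reassoc_of% hu, pullback.diagonal_fst, Category.comp_id]
  have e2 : u = U.ι ≫ g ≫ pullback.snd f f := by
    rw [← reassoc_of% hu, pullback.diagonal_snd, Category.comp_id]
  have key := h C r hn c hc hdim U hU u (g ≫ pullback.fst f f ≫ f) (by simpa using hg)
    (by conv_lhs => rw [e1]
        simp only [Category.assoc]) k hk
    (C.fromSpecStalk c ≫ g ≫ pullback.fst f f) (C.fromSpecStalk c ≫ g ≫ pullback.snd f f)
    (by simp only [Category.assoc])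
    (by conv_rhs => rw [e1]
        rw [reassoc_of% hk])
    (by simp only [Category.assoc, pullback.condition])
    (by conv_rhs => rw [e2]
        rw [reassoc_of% hk])
  refine ⟨C.fromSpecStalk c ≫ g ≫ pullback.fst f f, ?_, ?_⟩
  · apply pullback.hom_ext
    · simp only [Category.assoc, pullback.diagonal_fst, Category.comp_id]
    · rw [Category.assoc, pullback.diagonal_snd, Category.comp_id, key, Category.assoc]
  · conv_rhs => rw [e1]
    rw [reassoc_of% hk]

theorem isSeparated {S X Y : Scheme.{u}} (hS : ∀ W : S.affineOpens, CAlg.IsNagata Γ(S, W))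
    {q : Y ⟶ S} [LocallyOfFiniteType q] {f : X ⟶ Y} [LocallyOfFiniteType f]
    (h : UCrit q f) : IsSeparated f := by
  have hSN : IsLocallyNoetherian S := ⟨fun W ↦ (hS W).1⟩
  have hY : IsLocallyNoetherian Y := LocallyOfFiniteType.isLocallyNoetherian q
  have hX : IsLocallyNoetherian X := LocallyOfFiniteType.isLocallyNoetherian f
  have hXX : IsLocallyNoetherian (pullback f f) :=
    LocallyOfFiniteType.isLocallyNoetherian (pullback.fst f f)
  have hqc : QuasiCompact (pullback.diagonal f) := inferInstance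
  have hft : LocallyOfFiniteType (pullback.diagonal f) := inferInstance
  have huc : UniversallyClosed (pullback.diagonal f) :=
    K340.NagCrit.universallyClosed hS (crit_diagonal h)
  exact ⟨.of_isPreimmersion _ ((pullback.diagonal f).isClosedMap.isClosed_range)⟩

theorem ucrit_of_isSeparated {S X Y : Scheme.{u}} {q : Y ⟶ S} {f : X ⟶ Y} [IsSeparated f] :
    UCrit q f := by
  intro C r _ _ _ hn c hc hdim U hU u g hg hu k hk l l' h1 h2 h3 h4
  have hdense : IsDominant (Spec.map (CommRingCat.ofHom (algebraMap (C.presheaf.stalk c)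
      (FractionRing (C.presheaf.stalk c))))) := by
    refine ⟨(PrimeSpectrum.denseRange_comap_iff_ker_le_nilRadical _).mpr ?_⟩
    have : RingHom.ker (algebraMap (C.presheaf.stalk c) (FractionRing (C.presheaf.stalk c))) = ⊥ :=
      (RingHom.injective_iff_ker_eq_bot _).mp (IsFractionRing.injective _ _)
    exact this.le.trans bot_le
  exact ext_of_isDominant_of_isSeparated f (h1.trans h3.symm) _ (h2.trans h4.symm)

end K340.NagSep
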