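import Mathlib.AlgebraicGeometry.Noetherian
import Mathlib.AlgebraicGeometry.Stalk
import Mathlib.AlgebraicGeometry.FunctionField
import Mathlib.AlgebraicGeometry.ValuativeCriterion
import Mathlib.RingTheory.Ideal.KrullsHeightTheorem
import Mathlib.RingTheory.KrullDimension.Field

/-!
# Testing a morphism with pointed normal curves of finite type over the base
-/

set_option autoImplicit false
universe u

open CategoryTheory AlgebraicGeometry Limits

namespace K340.NagTest

/-- Existence of lifts for pointed normal curves of finite type over `S`. -/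
def Crit {S X Y : Scheme.{u}} (q : Y ⟶ S) (f : X ⟶ Y) : Prop :=
  ∀ (C : Scheme.{u}) (r : C ⟶ S) [IsIntegral C] [LocallyOfFiniteType r] [QuasiCompact r],
    (∀ x : C, IsIntegrallyClosed (C.presheaf.stalk x)) →
    ∀ (c : C), IsClosed ({c} : Set C) → ringKrullDim (C.presheaf.stalk c) = 1 →
    ∀ (U : C.Opens), (U : Set C) = {c}ᶜ →
    ∀ (u : (U : Scheme.{u}) ⟶ X) (g : C ⟶ Y), g ≫ q = r → u ≫ f = U.ι ≫ g →
    ∀ (k : Spec (CommRingCat.of (FractionRing (C.presheaf.stalk c))) ⟶ (U : Scheme.{u})),
      k ≫ U.ι = Spec.map (CommRingCat.ofHom (algebraMap (C.presheaf.stalk c)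
        (FractionRing (C.presheaf.stalk c)))) ≫ C.fromSpecStalk c →
    ∃ l : Spec (C.presheaf.stalk c) ⟶ X, l ≫ f = C.fromSpecStalk c ≫ g ∧
      Spec.map (CommRingCat.ofHom (algebraMap (C.presheaf.stalk c)
        (FractionRing (C.presheaf.stalk c)))) ≫ l = k ≫ u

/-- The generic point of the local ring at a one-dimensional point of an integral scheme maps into the
complement of that point. -/
theorem exists_k {C : Scheme.{u}} [IsIntegral C] (c : C) (hc : ringKrullDim (C.presheaf.stalk c) = 1)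
    (U : C.Opens) (hU : (U : Set C) = {c}ᶜ) :
    ∃ k : Spec (CommRingCat.of (FractionRing (C.presheaf.stalk c))) ⟶ (U : Scheme.{u}),
      k ≫ U.ι = Spec.map (CommRingCat.ofHom (algebraMap (C.presheaf.stalk c)
        (FractionRing (C.presheaf.stalk c)))) ≫ C.fromSpecStalk c := by
  refine ⟨IsOpenImmersion.lift U.ι (Spec.map (CommRingCat.ofHom (algebraMap (C.presheaf.stalk c)
        (FractionRing (C.presheaf.stalk c)))) ≫ C.fromSpecStalk c) ?_, IsOpenImmersion.lift_fac _ _ _⟩
  rintro _ ⟨x, rfl⟩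
  rw [Scheme.Opens.range_ι, hU]
  intro hx
  rw [Set.mem_singleton_iff, Scheme.Hom.comp_apply] at hx
  have h1 := (C.fromSpecStalk c).isEmbedding.injective
    (hx.trans (Scheme.fromSpecStalk_closedPoint (x := c)).symm)
  have h2 : Ideal.comap (algebraMap (C.presheaf.stalk c) (FractionRing (C.presheaf.stalk c)))
      (PrimeSpectrum.asIdeal x) = IsLocalRing.maximalIdeal (C.presheaf.stalk c) :=
    congrArg PrimeSpectrum.asIdeal h1
  have h3 : PrimeSpectrum.asIdeal x = (⊥ : Ideal (FractionRing (C.presheaf.stalk c))) :=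
    (Ideal.eq_bot_or_top (K := FractionRing (C.presheaf.stalk c)) x.asIdeal).resolve_right
      (PrimeSpectrum.isPrime x).ne_top
  rw [h3, ← RingHom.ker_eq_comap_bot, (RingHom.injective_iff_ker_eq_bot _).mp
    (IsFractionRing.injective _ _)] at h2
  have h4 : IsField (C.presheaf.stalk c) := IsLocalRing.isField_iff_maximalIdeal_eq.mpr h2.symm
  rw [ringKrullDim_eq_zero_of_isField h4] at hc
  exact zero_ne_one hc

/-- A ring of dimension one at a maximal ideal. -/
theorem ringKrullDim_eq_one {C : Type u} [CommRing C] [IsDomain C] (c : Ideal C) [c.IsMaximal]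
    (hc0 : c ≠ ⊥) (hc : ∀ p : Ideal C, p.IsPrime → p ≤ c → p = ⊥ ∨ p = c)
    (A : Type u) [CommRing A] [Algebra C A] [IsLocalization.AtPrime A c] : ringKrullDim A = 1 := by
  rw [IsLocalization.AtPrime.ringKrullDim_eq_height c A]
  have h1 : c.height = 1 := by
    apply le_antisymm
    · refine (Ideal.height_le_iff (n := 1)).mpr fun q hq hqc ↦ ?_
      rcases hc q hq hqc.le with h | h
      · rw [h, Ideal.height_bot]
        exact zero_lt_one
      · exact absurd h hqc.ne
    · have := Ideal.height_add_one_le_of_lt_of_isPrime (bot_lt_iff_ne_bot.mpr hc0)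
      exact le_trans (by simp) this
  rw [h1]
  rfl

/-- The main test: a pointed normal curve through a point of the closure forces it into the range. -/
theorem test {S X Y : Scheme.{u}} [IsLocallyNoetherian S] {q : Y ⟶ S} [LocallyOfFiniteType q]
    {f : X ⟶ Y} (h : Crit q f) {R B C D : Type u} [CommRing R] [CommRing B] [CommRing C] [CommRing D]
    [Algebra R B] [Algebra R C] [Algebra C D] [Algebra R D] [IsScalarTower R C D] [IsDomain C]
    [Algebra.FiniteType R C] [IsIntegrallyClosed C] (c : Ideal C) [c.IsMaximal] (hc0 : c ≠ ⊥)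
    (hc : ∀ p : Ideal C, p.IsPrime → p ≤ c → p = ⊥ ∨ p = c) (s : C)
    (hs : ∀ p : Ideal C, p.IsPrime → s ∈ p → p = c) [IsLocalization.Away s D] (φ : B →ₐ[R] D)
    (j : Spec (CommRingCat.of R) ⟶ Y) [LocallyOfFiniteType j] (b : Spec (CommRingCat.of B) ⟶ X)
    (hb : b ≫ f = Spec.map (CommRingCat.ofHom (algebraMap R B)) ≫ j) :
    j ⟨c.comap (algebraMap R C), inferInstance⟩ ∈ Set.range f := by
  let 𝒞 : Scheme.{u} := Spec (CommRingCat.of C)
  let g : 𝒞 ⟶ Y := Spec.map (CommRingCat.ofHom (algebraMap R C)) ≫ j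
  have hft : LocallyOfFiniteType (Spec.map (CommRingCat.ofHom (algebraMap R C))) := by
    rw [HasRingHomProperty.Spec_iff (P := @LocallyOfFiniteType)]
    exact (RingHom.finiteType_algebraMap).mpr inferInstance
  have hg : LocallyOfFiniteType g := inferInstance
  have hr : LocallyOfFiniteType (g ≫ q) := inferInstance
  have hln : IsLocallyNoetherian 𝒞 := LocallyOfFiniteType.isLocallyNoetherian (g ≫ q)
  have hN : IsNoetherian 𝒞 := {}
  have hqc : QuasiCompact (g ≫ q) := inferInstance
  let x : 𝒞 := (⟨c, inferInstance⟩ : PrimeSpectrum C)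
  have hxc : IsClosed ({x} : Set 𝒞) := (PrimeSpectrum.isClosed_singleton_iff_isMaximal _).mpr ‹_›
  let U : 𝒞.Opens := ⟨{x}ᶜ, hxc.isOpen_compl⟩
  have hdim : ringKrullDim (𝒞.presheaf.stalk x) = 1 := by
    have : IsLocalization.AtPrime ((Spec.structureSheaf C).presheaf.stalk x) c :=
      StructureSheaf.IsLocalization.to_stalk C (⟨c, inferInstance⟩ : PrimeSpectrum C)
    exact ringKrullDim_eq_one c hc0 hc ((Spec.structureSheaf C).presheaf.stalk x)
  have hnorm : ∀ y : 𝒞, IsIntegrallyClosed (𝒞.presheaf.stalk y) := fun y ↦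
    isIntegrallyClosed_of_isLocalization (R := C) ((Spec.structureSheaf C).presheaf.stalk y)
      (PrimeSpectrum.asIdeal y).primeCompl (Ideal.primeCompl_le_nonZeroDivisors _)
  let jD : Spec (CommRingCat.of D) ⟶ 𝒞 := Spec.map (CommRingCat.ofHom (algebraMap C D))
  have hjD : IsOpenImmersion jD := IsOpenImmersion.of_isLocalization s
  have hrange : Set.range U.ι ⊆ Set.range jD := by
    rw [Scheme.Opens.range_ι]
    intro y hy
    have h1 : Set.range jD = (PrimeSpectrum.basicOpen s : Set (PrimeSpectrum C)) :=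
      PrimeSpectrum.localization_away_comap_range D s
    rw [h1]
    intro hys
    apply hy
    exact PrimeSpectrum.ext (hs _ (PrimeSpectrum.isPrime y) hys)
  let v : (U : Scheme.{u}) ⟶ Spec (CommRingCat.of D) := IsOpenImmersion.lift jD U.ι hrange
  have hv : v ≫ jD = U.ι := IsOpenImmersion.lift_fac _ _ _
  let w : (U : Scheme.{u}) ⟶ X := v ≫ Spec.map (CommRingCat.ofHom φ.toRingHom) ≫ b
  have hw : w ≫ f = U.ι ≫ g := by
    have e1 : Spec.map (CommRingCat.ofHom φ.toRingHom) ≫ Spec.map (CommRingCat.ofHom (algebraMap R B)) =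
        jD ≫ Spec.map (CommRingCat.ofHom (algebraMap R C)) := by
      rw [← Spec.map_comp, ← Spec.map_comp, ← CommRingCat.ofHom_comp, ← CommRingCat.ofHom_comp]
      congr 2
      rw [← IsScalarTower.algebraMap_eq R C D]
      exact φ.comp_algebraMap
    dsimp only [w, g]
    rw [Category.assoc, Category.assoc, hb, reassoc_of% e1, ← hv, Category.assoc]
  obtain ⟨k, hk⟩ := exists_k x hdim U rfl
  obtain ⟨l, hl, -⟩ := h 𝒞 (g ≫ q) hnorm x hxc hdim U rfl w g rfl hw k hk
  refine ⟨l (IsLocalRing.closedPoint _), ?_⟩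
  rw [← Scheme.Hom.comp_apply, hl, Scheme.Hom.comp_apply, Scheme.fromSpecStalk_closedPoint]
  rfl

end K340.NagTest
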