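import Groth.Agent.Smoothlim.LimDescend
import Groth.Agent.Ega43.LimTarget

/-!
# The one object form of descent from the affine form; conjunctions
-/

set_option autoImplicit false
universe u

open CategoryTheory CategoryTheory.Limits AlgebraicGeometry

namespace K340.One

open Groth.Agent.Smoothlim.LimBase Groth.Agent.Ega43.LimRed Groth.Agent.Ega43.LimTarget

theorem descendsOne_of_descendsAffine {Q Q' P : MorphismProperty Scheme.{u}}
    [P.IsStableUnderBaseChange] [IsZariskiLocalAtTarget P] [Q'.IsStableUnderBaseChange]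
    (hQ : ∀ {X Y : Scheme.{u}} (f : X ⟶ Y) [QuasiCompact f] [QuasiSeparated f], Q f → Q' f)
    (hA : DescendsAffine Q' P) : DescendsOne Q P := by
  intro I _ _ D c hc _ _ _ i₀ X₀ f₀ hf₀ _ _ h
  obtain ⟨i, φ, hi⟩ := exists_descend hA D c hc i₀ f₀ (𝟙 _)
    (pullback.snd f₀ (c.π.app i₀)) (𝟙 _) (c.π.app i₀) (pullback.fst f₀ (c.π.app i₀))
    (IsPullback.of_vert_isIso ⟨by simp⟩) (IsPullback.of_hasPullback _ _) (hQ f₀ hf₀) h
  refine ⟨i, φ, ?_⟩
  have h1 : IsPullback (pullback.fst f₀ (D.map φ)) (pullback.snd f₀ (D.map φ)) f₀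
      (inv (pullback.snd (𝟙 (D.obj i₀)) (D.map φ)) ≫ pullback.fst (𝟙 _) (D.map φ)) := by
    have e : inv (pullback.snd (𝟙 (D.obj i₀)) (D.map φ)) ≫ pullback.fst (𝟙 _) (D.map φ) = D.map φ := by
      rw [IsIso.inv_comp_eq, ← pullback.condition, Category.comp_id]
    rw [e]
    exact IsPullback.of_hasPullback _ _
  exact prop_of_isPullback_comp h1 hi

lemma prop_snd_of_fac {P : MorphismProperty Scheme.{u}} [P.IsStableUnderBaseChange]
    {X₀ S₀ V W : Scheme.{u}} (f₀ : X₀ ⟶ S₀) (v : W ⟶ S₀) (m : W ⟶ V) (n : V ⟶ S₀) (e : v = m ≫ n)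
    (h : P (pullback.snd f₀ n)) : P (pullback.snd f₀ v) := by
  subst e
  exact prop_of_isPullback_comp (IsPullback.of_hasPullback _ _) h

theorem descendsOne_inf {Q P P' : MorphismProperty Scheme.{u}} [P.IsStableUnderBaseChange]
    [P'.IsStableUnderBaseChange] (h : DescendsOne Q P) (h' : DescendsOne Q P') :
    DescendsOne Q (P ⊓ P') := by
  intro I _ _ D c hc _ _ _ i₀ X₀ f₀ hf₀ _ _ hP
  obtain ⟨i, φ, hi⟩ := h D c hc i₀ f₀ hf₀ hP.1
  obtain ⟨j, ψ, hj⟩ := h' D c hc i₀ f₀ hf₀ hP.2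
  obtain ⟨k, a, b, hab⟩ := IsCofiltered.cospan φ ψ
  refine ⟨k, a ≫ φ, ?_, ?_⟩
  · exact prop_snd_of_fac f₀ _ (D.map a) (D.map φ) (D.map_comp _ _) hi
  · exact prop_snd_of_fac f₀ _ (D.map b) (D.map ψ) (by rw [hab, D.map_comp]) hj

theorem descendsOne_mono {Q Q' P : MorphismProperty Scheme.{u}} (hQ : Q' ≤ Q)
    (h : DescendsOne Q P) : DescendsOne Q' P := by
  intro I _ _ D c hc _ _ _ i₀ X₀ f₀ hf₀ _ _ hP
  exact h D c hc i₀ f₀ (hQ _ hf₀) hP

end K340.One
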