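import Groth.Agent.Lim.K340.One
import Groth.Agent.Lim.K340.Locus

/-!
# Successive descent
-/

set_option autoImplicit false
universe u

open CategoryTheory CategoryTheory.Limits AlgebraicGeometry

namespace K340.One2

open Groth.Agent.Ega43.LimRed Groth.Agent.Ega43.LimTarget K340.One

lemma prop_snd_of_eq {P : MorphismProperty Scheme.{u}} {X₀ S₀ W : Scheme.{u}} (f₀ : X₀ ⟶ S₀)
    (v v' : W ⟶ S₀) (e : v = v') (h : P (pullback.snd f₀ v)) : P (pullback.snd f₀ v') := by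
  subst e
  exact h

/-- First descend `P₁`, then `P₂` for morphisms having `P₁`. -/
theorem descendsOne_trans {Q P₁ P₂ : MorphismProperty Scheme.{u}} [Q.IsStableUnderBaseChange]
    [P₁.IsStableUnderBaseChange] [P₂.IsStableUnderBaseChange] (h₁ : DescendsOne Q P₁)
    (h₂ : DescendsOne (Q ⊓ P₁) P₂) : DescendsOne Q (P₁ ⊓ P₂) := by
  intro I _ _ D c hc _ _ _ i₀ X₀ f₀ hf₀ _ _ hP
  have r1 : P₁.RespectsIso := MorphismProperty.IsStableUnderBaseChange.respectsIso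
  have r2 : P₂.RespectsIso := MorphismProperty.IsStableUnderBaseChange.respectsIso
  obtain ⟨i, φ, hi⟩ := h₁ D c hc i₀ f₀ hf₀ hP.1
  obtain ⟨j, ψ, hj⟩ := h₂ D c hc i (pullback.snd f₀ (D.map φ)) ⟨Q.pullback_snd _ _ hf₀, hi⟩
    ((prop_pullback_snd_iff (P := P₂) f₀ _ _).mpr
      (prop_snd_of_eq f₀ _ _ (c.w φ).symm hP.2))
  refine ⟨j, ψ ≫ φ, ?_, ?_⟩
  · exact prop_snd_of_fac f₀ _ (D.map ψ) (D.map φ) (D.map_comp _ _) hi
  · exact prop_snd_of_eq f₀ _ _ (D.map_comp _ _).symm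
      ((prop_pullback_snd_iff (P := P₂) f₀ _ _).mp hj)

end K340.One2
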