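import Groth.Agent.CohqA.LerayBasis
import Groth.Agent.CohqA.AffineVanish
import Groth.Agent.CohqB.HSeqMod

/-!
# A natural comparison of cohomology for an affine morphism
-/

set_option autoImplicit false
universe u

open CategoryTheory CategoryTheory.Limits AlgebraicGeometry Opposite TopologicalSpace Abelian

namespace K340.PushNat

open Groth.Agent.CohtopA Groth.Agent.CohqB.HSeqMod

section Abs

variable {A : Type*} [Category* A] [Abelian A] {B : Type*} [Category* B] [Abelian B]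
  [HasExt.{u} A] [HasExt.{u} B] {L : B ⥤ A} {R : A ⥤ B} (adj : L ⊣ R) [L.Additive] [PreservesFiniteLimits L]
  [PreservesFiniteColimits L] [R.Additive] {ZB : B} {ZA : A} (e : L.obj ZB ≅ ZA)

/-- The comparison map of an adjunction with exact left adjoint. -/
noncomputable def cmpA (F : A) (i : ℕ) : Ext ZB (R.obj F) i →+ Ext ZA F i :=
  ((Ext.mk₀ e.inv).precomp F (zero_add i)).comp (ExtAdj.extAdj adj ZB F i)

omit [R.Additive] in
theorem cmpA_apply (F : A) (i : ℕ) (x : Ext ZB (R.obj F) i) :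
    cmpA adj e F i x = (Ext.mk₀ e.inv).comp (ExtAdj.extAdj adj ZB F i x) (zero_add i) := rfl

theorem cmpA_naturality {F G : A} (φ : F ⟶ G) (i : ℕ) (x : Ext ZB (R.obj F) i) :
    cmpA adj e G i (x.comp (Ext.mk₀ (R.map φ)) (add_zero i)) =
      (cmpA adj e F i x).comp (Ext.mk₀ φ) (add_zero i) := by
  rw [cmpA_apply, cmpA_apply, ExtAdj.extAdj_postcomp_mk₀, Ext.comp_assoc_of_third_deg_zero]

theorem cmpA_surjective (F : A) (i : ℕ) (h : Function.Surjective (ExtAdj.extAdj adj ZB F i)) :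
    Function.Surjective (cmpA adj e F i) := by
  intro y
  obtain ⟨z, hz⟩ := h ((Ext.mk₀ e.hom).comp y (zero_add i))
  refine ⟨z, ?_⟩
  rw [cmpA_apply, hz, Ext.mk₀_comp_mk₀_assoc, Iso.inv_hom_id, Ext.mk₀_id_comp]

end Abs

variable {X S : Scheme.{u}}

/-- The comparison map `H^i(S, f_* F) → H^i(X, F)` for abelian sheaves. -/
noncomputable def cmp (f : X ⟶ S) (F : CohTop.Ab X.toTopCat) (i : ℕ) :
    CohTop.H ((CohTop.push f.base).obj F) i →+ CohTop.H F i :=
  cmpA (Groth.Agent.CohtopB.TopPull.adj f.base) (PushClosed.pullConstIso f.base) F i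

theorem cmp_naturality (f : X ⟶ S) {F G : CohTop.Ab X.toTopCat} (φ : F ⟶ G) (i : ℕ)
    (x : CohTop.H ((CohTop.push f.base).obj F) i) :
    cmp f G i (x.comp (Ext.mk₀ ((CohTop.push f.base).map φ)) (add_zero i)) =
      (cmp f F i x).comp (Ext.mk₀ φ) (add_zero i) :=
  cmpA_naturality _ _ φ i x

theorem cmp_surjective (f : X ⟶ S) [IsAffineHom f] (M : X.Modules) (hM : Coh.IsQCoh M) (i : ℕ) :
    Function.Surjective (cmp f (Coh.toAb M) i) := by
  have h1 := (Groth.Agent.CohqA.LerayBasis.bijective_extAdj f.base {V | IsAffineOpen V}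
    S.isBasis_affineOpens (PushClosed.ZZ S.toTopCat) i (Coh.toAb M) (fun V hV q hq => by
      exact Groth.Agent.CohqA.AffineVanish.HU_subsingleton M q hq _ (IsAffineOpen.preimage hV f))).2
  exact cmpA_surjective _ _ _ i h1

/-- A natural surjective map `H^i(S, f_* M) → H^i(X, M)` for quasi-coherent modules and affine `f`. -/
theorem exists_cmp (f : X ⟶ S) [IsAffineHom f] (i : ℕ) :
    ∃ c : ∀ M : X.Modules, Coh.HH S ((Coh.push f).obj M) i →+ Coh.HH X M i,
      (∀ M, Coh.IsQCoh M → Function.Surjective (c M)) ∧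
      ∀ (M N : X.Modules) (φ : M ⟶ N) (x : Coh.HH S ((Coh.push f).obj M) i),
        c N (hmap ((Coh.push f).map φ) i x) = hmap φ i (c M x) :=
  ⟨fun M ↦ cmp f (Coh.toAb M) i, fun M hM ↦ cmp_surjective f M hM i,
    fun _ _ φ x ↦ cmp_naturality f ((SheafOfModules.toSheaf X.ringCatSheaf).map φ) i x⟩

end K340.PushNat
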