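import Groth.Agent.Lim.K340.One2
import Groth.Agent.Lim.K340.Degree
import Groth.Agent.S2863
import Groth.Agent.Synt.K563.SchDict

/-!
# Syntomic morphisms descend from a cofiltered limit to a stage
-/

set_option autoImplicit false
universe u

open CategoryTheory CategoryTheory.Limits AlgebraicGeometry

namespace K340.Synt

open Groth.Agent.Ega43.LimRed K340.One2 K340.Locus

/-- The fibre through `x` is a complete intersection at `x`. -/
abbrev CIAt {X Y : Scheme.{u}} (f : X ⟶ Y) (x : X) : Prop :=
  Pi1.IsCompleteIntersection (CInt.fiberStalk f x)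

theorem bc_CIAt : BC (@LocallyOfFinitePresentation ⊓ @Flat) (fun f x ↦ CIAt f x) := by
  intro X' X Y' Y g' f' f g h hf x'
  have : LocallyOfFinitePresentation f := hf.1
  exact (Groth.Agent.Ega4dB.CIFibre.isCI_fiberStalk_iff_of_isPullback h x').symm

/-- Syntomic morphisms, as flat morphisms locally of finite presentation with complete intersection fibres. -/
abbrev P₂ : MorphismProperty Scheme.{u} :=
  All (@LocallyOfFinitePresentation ⊓ @Flat) (fun f x ↦ CIAt f x)

instance : (P₂.{u}).IsStableUnderBaseChange := all_isStableUnderBaseChange bc_CIAt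

theorem descendsOne_CI : DescendsOne @LocallyOfFinitePresentation.{u} (@Flat ⊓ P₂) :=
  descendsOne_trans K340.Degree.descendsOne_flat
    (descendsOne_all (descendsOne_of_isOpen (Q := @LocallyOfFinitePresentation ⊓ @Flat)
      (fun f x ↦ CIAt f x) (fun f hf ↦ by
        have : LocallyOfFinitePresentation f := hf.1
        have : Flat f := hf.2
        exact Groth.Agent.S2863.isOpen_ciLocus f) bc_CIAt))

theorem isSyntomicMor_iff {X Y : Scheme.{u}} (f : X ⟶ Y) :
    Synt.IsSyntomicMor f ↔ (@Flat ⊓ P₂ : MorphismProperty Scheme.{u}) f := by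
  rw [K563.SchDict.isSyntomicMor_iff]
  constructor
  · rintro ⟨h1, h2, h3⟩
    exact ⟨h1, ⟨h2, h1⟩, h3⟩
  · rintro ⟨h1, ⟨h2, -⟩, h3⟩
    exact ⟨h1, h2, h3⟩

end K340.Synt
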