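import Groth.Agent.Lim.K340.TopGen

/-!
# Functions on a closed subscheme of a base change
-/

set_option autoImplicit false
universe u

open CategoryTheory CategoryTheory.Limits AlgebraicGeometry Opposite TopologicalSpace

namespace K340.TopGen

theorem gen_of_isPushout {R A B P : CommRingCat.{u}} {f : R ⟶ A} {g : R ⟶ B} {inl : A ⟶ P}
    {inr : B ⟶ P} (h : IsPushout f g inl inr) (x : P) :
    ∃ (m : ℕ) (a : Fin m → A) (b : Fin m → B), x = ∑ i, inl.hom (a i) * inr.hom (b i) := by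
  algebraize [f.hom, g.hom]
  have h' : IsPushout f g (CommRingCat.ofHom (Algebra.TensorProduct.includeLeftRingHom (R := R) (A := A) (B := B)))
    (CommRingCat.ofHom (Algebra.TensorProduct.includeRight (R := R) (A := A) (B := B)).toRingHom) :=
    CommRingCat.isPushout_tensorProduct R A B
  let e := h'.isoIsPushout _ _ h
  have hl1 := IsPushout.inl_isoIsPushout_hom _ _ h' h
  have hr1 := IsPushout.inr_isoIsPushout_hom _ _ h' h
  have hl : ∀ a : A, e.hom.hom (a ⊗ₜ[R] (1 : B)) = inl.hom a := fun a =>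
    congrArg (fun φ : A ⟶ P => φ.hom a) hl1
  have hr : ∀ b : B, e.hom.hom ((1 : A) ⊗ₜ[R] b) = inr.hom b := fun b =>
    congrArg (fun φ : B ⟶ P => φ.hom b) hr1
  obtain ⟨m, a, b, hab⟩ := TensorProduct.exists_sum_tmul_eq (R := R) (M := A) (N := B) (e.inv.hom x)
  refine ⟨m, a, b, ?_⟩
  have hx : x = e.hom.hom (e.inv.hom x) := by
    rw [← RingHom.comp_apply, ← CommRingCat.hom_comp, e.inv_hom_id]
    rfl
  rw [hx, hab, map_sum]
  refine Finset.sum_congr rfl fun i _ => ?_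
  rw [← hl, ← hr, ← map_mul, Algebra.TensorProduct.tmul_mul_tmul, mul_one, one_mul]

theorem exists_sum {X₀ X' S S₀ : Scheme.{u}} {φ : X₀ ⟶ S₀} {q : S ⟶ S₀} {p : X' ⟶ X₀}
    {f' : X' ⟶ S} (h : IsPullback p f' φ q) [IsAffine S₀] [IsAffine S] {U : X₀.Opens} (hU : IsAffineOpen U)
    (b : Γ(X', p ⁻¹ᵁ U)) :
    ∃ (m : ℕ) (a : Fin m → Γ(X₀, U)) (r : Fin m → Γ(S, ⊤)),
      b = ∑ i, p.app U (a i) * res X' (p ⁻¹ᵁ U) (f'.appTop.hom (r i)) := by
  have h1 := isIso_pushoutSection_of_isAffineOpen h (US := ⊤) (UT := ⊤) (UX := U)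
    (UY := p ⁻¹ᵁ U) le_top le_top (by simp) (isAffineOpen_top _) (isAffineOpen_top _) hU
  have h2 := (isIso_pushoutSection_iff h (US := ⊤) (UT := ⊤) (UX := U)
    (UY := p ⁻¹ᵁ U) le_top le_top (by simp)).mp h1
  obtain ⟨m, a, r, hb⟩ := gen_of_isPushout h2 b
  refine ⟨m, a, r, hb.trans (Finset.sum_congr rfl fun i _ => ?_)⟩
  congr 1
  · rw [Scheme.Hom.appLE_eq_app]

theorem gen_of_isPullback {A : Type u} [CommRing A] {X X₀ X' S₀ : Scheme.{u}} {φ : X₀ ⟶ S₀}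
    {q : Spec (CommRingCat.of A) ⟶ S₀} {p : X' ⟶ X₀} {f' : X' ⟶ Spec (CommRingCat.of A)}
    (h : IsPullback p f' φ q) [IsAffine S₀] (i : X ⟶ X') [IsClosedImmersion i]
    (f : X ⟶ Spec (CommRingCat.of A)) (hf : i ≫ f' = f) {U : X₀.Opens} (hU : IsAffineOpen U) :
    Gen (i ≫ p) (Coh.toGlobal f) U := by
  intro b
  have hq : IsAffineHom q := inferInstance
  have hp : IsAffineHom p := MorphismProperty.of_isPullback (P := @IsAffineHom) h.flip hq
  obtain ⟨b', hb'⟩ := i.app_surjective (p ⁻¹ᵁ U) (hU.preimage p) b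
  obtain ⟨m, a, r, hr⟩ := exists_sum h hU b'
  refine ⟨m, a, fun k => (Scheme.ΓSpecIso (CommRingCat.of A)).hom.hom (r k), ?_⟩
  rw [← hb', hr, map_sum]
  refine Finset.sum_congr rfl fun k _ => ?_
  rw [map_mul]
  congr 1
  have h1 : (Scheme.ΓSpecIso (CommRingCat.of A)).inv.hom ((Scheme.ΓSpecIso (CommRingCat.of A)).hom.hom (r k)) =
      r k := by
    rw [← RingHom.comp_apply, ← CommRingCat.hom_comp, Iso.hom_inv_id]
    rfl
  change i.app (p ⁻¹ᵁ U) (res X' (p ⁻¹ᵁ U) (f'.appTop.hom (r k))) =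
    res X (i ⁻¹ᵁ (p ⁻¹ᵁ U)) (f.appTop.hom ((Scheme.ΓSpecIso (CommRingCat.of A)).inv.hom
      ((Scheme.ΓSpecIso (CommRingCat.of A)).hom.hom (r k))))
  rw [h1, ← hf]
  have h2 := ConcreteCategory.congr_hom (i.naturality (homOfLE (le_top (a := p ⁻¹ᵁ U))).op)
    (f'.appTop.hom (r k))
  refine h2.trans ?_
  have h3 : (i ≫ f').appTop = f'.appTop ≫ i.appTop := Scheme.Hom.comp_appTop i f'
  rw [h3]
  rfl

end K340.TopGen
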