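import Groth.Agent.Flat2G.H1GG
import Groth.Agent.Flat2G.ProperApprox
import Groth.Agent.Flat2G.NoethVanish
import Groth.Agent.FormalB.ModPowAff2
import Groth.Agent.Ega1.PullFormal
import Groth.Agent.Ega1.QcqsPush
import Groth.Agent.CohqB.FiniteType2
import Groth.Agent.CohqB.KerTrick
import Groth.Agent.S0002
import Groth.Agent.Lim.K340.PushNat
import Groth.Agent.Lim.K340.TopGenAff

/-!
# Finiteness of the cohomology in the top degree

`finite_HH`: for `X` proper over `Spec A` (no Noetherian hypothesis) with fibres of dimension at most `d` and `M`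
quasi-coherent of finite type, the `A`-module `H^d(X, M)` is finite.
-/

set_option autoImplicit false
universe u

open CategoryTheory CategoryTheory.Limits AlgebraicGeometry Opposite TopologicalSpace

namespace K340.TopFin

open Groth.Agent Groth.Agent.CohqB.HSeqMod K340.TopGen

theorem appTop_comp {X Y Z : Scheme.{u}} (a : X ⟶ Y) (b : Y ⟶ Z) (x : Γ(Z, ⊤)) :
    (a ≫ b).appTop.hom x = a.appTop.hom (b.appTop.hom x) := by
  rw [Scheme.Hom.comp_appTop]
  rfl

/-- The top degree cohomology of a direct image generated by a coherent submodule and constants. -/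
theorem finite_of_gen (A : Type u) [CommRing A] {X : Scheme.{u}} [X.Over (Spec (CommRingCat.of A))]
    {X₀ S₀ : Scheme.{u}} (φ : X₀ ⟶ S₀) [IsProper φ] [IsAffine S₀] [IsNoetherian S₀] (d : ℕ)
    (hd : ∀ s : S₀, topologicalKrullDim ↥(φ.fiber s) ≤ d)
    (g : X ⟶ X₀) [IsAffineHom g] (q : Spec (CommRingCat.of A) ⟶ S₀)
    (hq : g ≫ φ = (X ↘ Spec (CommRingCat.of A)) ≫ q)
    (hgen : ∀ U : X₀.Opens, IsAffineOpen U → Gen g (Coh.toGlobal (X ↘ Spec (CommRingCat.of A))) U)
    (M : X.Modules) (hM : Coh.IsCoh M) : Module.Finite A (Coh.HH X M d) := by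
  have hMq : Coh.IsQCoh M := hM.1
  have : CompactSpace X₀ := QuasiCompact.compactSpace_of_compactSpace φ
  have : IsLocallyNoetherian X₀ := LocallyOfFiniteType.isLocallyNoetherian φ
  have : IsNoetherian X₀ := {}
  have hN : Coh.IsQCoh ((Scheme.Modules.pushforward g).obj M) :=
    Groth.Agent.Ega1.QcqsPush.isQCoh_pushforward g M hMq
  obtain ⟨J, hJ, V, hV⟩ := Groth.Agent.Sga67.CohLoc.exists_finite_affine_cover X₀
  have hfin : ∀ j : J, Module.Finite Γ(X, g ⁻¹ᵁ (V j).1) Γ(M, g ⁻¹ᵁ (V j).1) := fun j =>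
    Groth.Agent.CohqB.FiniteType2.finite_sections_of_isFT M hM.2 ((V j).2.preimage g)
  choose s hs using fun j => (hfin j).fg_top
  obtain ⟨G, i₀, -, hG, hGs⟩ := Groth.Agent.Flat2G.NoethVanish.exists_isCoh_sections
    ((Scheme.Modules.pushforward g).obj M) hN (κ := Σ j : J, ↥(s j)) (fun k => (V k.1).1) (fun k => k.2.1)
  let α := Coh.toGlobal (X ↘ Spec (CommRingCat.of A))
  let Φ := Phi g α M i₀
  have hΦ : Epi Φ := by
    refine Groth.Agent.FormalB.ModPowAff2.epi_of_affine_cover hN Φ fun x => ?_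
    obtain ⟨j, hj⟩ := hV x
    refine ⟨(V j).1, hj, (V j).2, ?_⟩
    refine Phi_app_surjective g α M i₀ _ (hgen _ (V j).2) (s j) (hs j) fun m hm => ?_
    exact hGs ⟨j, ⟨m, hm⟩⟩
  have hcop : Coh.IsQCoh (∐ fun _ : A => G) := Groth.Agent.CohqB.QC7.isQCoh_coproduct _ fun _ => hG.1
  have hsurj := Groth.Agent.Flat2G.H1GG.hmap_surjective φ d hd hcop hN Φ
  obtain ⟨c, hc, hcn⟩ := K340.PushNat.exists_cmp g d
  -- the finite module over the Noetherian ring
  let _ : X₀.Over (Spec (CommRingCat.of Γ(S₀, ⊤))) := ⟨φ ≫ S₀.isoSpec.hom⟩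
  have hNR : IsNoetherianRing Γ(S₀, ⊤) := IsLocallyNoetherian.component_noetherian ⟨⊤, isAffineOpen_top S₀⟩
  have hP : IsProper (X₀ ↘ Spec (CommRingCat.of Γ(S₀, ⊤))) := by
    change IsProper (φ ≫ S₀.isoSpec.hom)
    infer_instance
  have hfin0 := Groth.Agent.S0002.result Γ(S₀, ⊤) X₀ G hG d
  obtain ⟨T, hT⟩ := hfin0.fg_top
  let F : Coh.HH X₀ G d →+ Coh.HH X M d := (c M).comp (hmap i₀ d)
  let N : Submodule A (Coh.HH X M d) := Submodule.span A (F '' (T : Set (Coh.HH X₀ G d)))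
  have hglob : ∀ t : Γ(S₀, ⊤), ∃ a : A,
      g.appTop.hom (Coh.toGlobal (X₀ ↘ Spec (CommRingCat.of Γ(S₀, ⊤))) t) = α a := by
    intro t
    let w := q ≫ S₀.isoSpec.hom
    refine ⟨(Scheme.ΓSpecIso (CommRingCat.of A)).hom.hom (w.appTop.hom
      ((Scheme.ΓSpecIso (CommRingCat.of Γ(S₀, ⊤))).inv.hom t)), ?_⟩
    have h0 : ∀ z, (Scheme.ΓSpecIso (CommRingCat.of A)).inv.hom
        ((Scheme.ΓSpecIso (CommRingCat.of A)).hom.hom z) = z := fun z => by
      rw [← RingHom.comp_apply, ← CommRingCat.hom_comp, Iso.hom_inv_id]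
      rfl
    change g.appTop.hom ((φ ≫ S₀.isoSpec.hom).appTop.hom
      ((Scheme.ΓSpecIso (CommRingCat.of Γ(S₀, ⊤))).inv.hom t)) =
      (X ↘ Spec (CommRingCat.of A)).appTop.hom ((Scheme.ΓSpecIso (CommRingCat.of A)).inv.hom
        ((Scheme.ΓSpecIso (CommRingCat.of A)).hom.hom (w.appTop.hom
      ((Scheme.ΓSpecIso (CommRingCat.of Γ(S₀, ⊤))).inv.hom t))))
    rw [h0, ← appTop_comp, ← appTop_comp, ← Category.assoc, hq, Category.assoc]
  have key1 : ∀ y : Coh.HH X₀ G d, F y ∈ N := by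
    intro y
    have hy : y ∈ Submodule.span Γ(S₀, ⊤) (T : Set (Coh.HH X₀ G d)) := by rw [hT]; trivial
    induction hy using Submodule.span_induction with
    | mem y hy => exact Submodule.subset_span ⟨y, hy, rfl⟩
    | zero => rw [map_zero]; exact N.zero_mem
    | add x y _ _ hx hy => rw [map_add]; exact N.add_mem hx hy
    | smul t y _ hy =>
      obtain ⟨a, ha⟩ := hglob t
      have h1 : F (t • y) = a • F y := by
        change c M (hmap i₀ d (hmap (Formal.smulModΓ G (Coh.toGlobal (X₀ ↘ Spec (CommRingCat.of Γ(S₀, ⊤))) t)) d y)) =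
          hmap (Formal.smulModΓ M (α a)) d (c M (hmap i₀ d y))
        rw [← hmap_comp_apply, Groth.Agent.CohqB.KerTrick.smulModΓ_naturality, hmap_comp_apply, ← ha, ← hcn,
          ← Groth.Agent.Ega1.PullFormal.pushforward_smulModΓ]
      rw [h1]
      exact N.smul_mem a hy
  refine ⟨⟨(T.finite_toSet.image F).toFinset, ?_⟩⟩
  rw [Set.Finite.coe_toFinset, eq_top_iff]
  rintro w -
  obtain ⟨v, rfl⟩ := hc M hMq w
  obtain ⟨z, rfl⟩ := hsurj v
  obtain ⟨s', y, rfl⟩ := Groth.Agent.CohqA.DirectSum.exists_finset_sum (fun _ : A => G) d z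
  rw [map_sum, map_sum]
  refine Submodule.sum_mem _ fun r _ => ?_
  have h1 : c M (hmap Φ d (Sheaf.H.map ((SheafOfModules.toSheaf X₀.ringCatSheaf).map
      (Sigma.ι (fun _ : A => G) r)) d (y r))) = r • F (y r) := by
    change c M (hmap Φ d (hmap (Sigma.ι (fun _ : A => G) r) d (y r))) =
      hmap (Formal.smulModΓ M (α r)) d (c M (hmap i₀ d (y r)))
    rw [← hmap_comp_apply, ι_Phi, hmap_comp_apply, ← hcn]
  rw [h1]
  exact N.smul_mem r (key1 (y r))

/-- Finiteness of the cohomology in the top degree, without Noetherian hypothesis. -/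
theorem finite_HH (A : Type u) [CommRing A] (X : Scheme.{u}) [X.Over (Spec (CommRingCat.of A))]
    [IsProper (X ↘ Spec (CommRingCat.of A))] (d : ℕ)
    (hd : ∀ y : Spec (CommRingCat.of A), topologicalKrullDim ↥((X ↘ Spec (CommRingCat.of A)).fiber y) ≤ d)
    (M : X.Modules) (hM : Coh.IsCoh M) : Module.Finite A (Coh.HH X M d) := by
  obtain ⟨X₀, S₀, X', φ, q, p, f', i, hi, hif, hpb, hφ, -, hS₀, hS₀N, hd₀⟩ :=
    Groth.Agent.Flat2G.ProperApprox.exists_closed_approx (X ↘ Spec (CommRingCat.of A)) d hd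
  have hq : IsAffineHom q := inferInstance
  have hp : IsAffineHom p := MorphismProperty.of_isPullback (P := @IsAffineHom) hpb.flip hq
  refine finite_of_gen A φ d hd₀ (i ≫ p) q ?_ (fun U hU => gen_of_isPullback hpb i _ hif hU) M hM
  rw [Category.assoc, hpb.w, ← hif, Category.assoc]

end K340.TopFin
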