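import Groth.Prelude.Def_Coh
import Groth.Prelude.Def_Formal
import Mathlib.AlgebraicGeometry.Morphisms.Flat
import Mathlib.LinearAlgebra.TensorProduct.Finiteness

/-!
# Generating a direct image by a submodule and constants

For `g : X ⟶ X₀`, a ring map `α : A → Γ(X, O_X)` and a map `i₀ : G ⟶ g_* M`, the induced map
`∐_{r : A} G ⟶ g_* M`, and its surjectivity on sections over an affine open `U` such that `Γ(g⁻¹U, O_X)` is
generated by `Γ(U, O_{X₀})` and `A`.
-/

set_option autoImplicit false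
universe u

open CategoryTheory CategoryTheory.Limits AlgebraicGeometry Opposite TopologicalSpace

namespace K340.TopGen

variable {X X₀ : Scheme.{u}}

/-- Restriction of global functions. -/
noncomputable def res (X : Scheme.{u}) (U : X.Opens) : Coh.Γtop X →+* Γ(X, U) :=
  (X.presheaf.map (homOfLE (le_top (a := U))).op).hom

theorem smulModΓ_app (M : X.Modules) (r : Coh.Γtop X) (U : X.Opens) (m : Γ(M, U)) :
    (Formal.smulModΓ M r).app U m = res X U r • m := rfl

/-- Every function on `g⁻¹ U` is a sum of products of functions on `U` and constants. -/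
def Gen (g : X ⟶ X₀) {A : Type u} [CommRing A] (α : A →+* Coh.Γtop X) (U : X₀.Opens) : Prop :=
  ∀ b : Γ(X, g ⁻¹ᵁ U), ∃ (n : ℕ) (a : Fin n → Γ(X₀, U)) (r : Fin n → A),
    b = ∑ k, g.app U (a k) * res X (g ⁻¹ᵁ U) (α (r k))

variable (g : X ⟶ X₀) {A : Type u} [CommRing A] (α : A →+* Coh.Γtop X) (M : X.Modules) {G : X₀.Modules}
  (i₀ : G ⟶ (Scheme.Modules.pushforward g).obj M)

/-- The map `∐_{r : A} G ⟶ g_* M` whose `r`-th component is `r` times the given map. -/
noncomputable def Phi : (∐ fun _ : A => G) ⟶ (Scheme.Modules.pushforward g).obj M :=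
  Sigma.desc fun r => i₀ ≫ (Scheme.Modules.pushforward g).map (Formal.smulModΓ M (α r))

theorem ι_Phi (r : A) : Sigma.ι (fun _ : A => G) r ≫ Phi g α M i₀ =
    i₀ ≫ (Scheme.Modules.pushforward g).map (Formal.smulModΓ M (α r)) := Sigma.ι_desc _ _

/-- The map on sections, with values in the sections of `M`. -/
noncomputable def sec (U : X₀.Opens) (t : Γ(G, U)) : Γ(M, g ⁻¹ᵁ U) := i₀.app U t

theorem sec_smul (U : X₀.Opens) (a : Γ(X₀, U)) (t : Γ(G, U)) :
    sec g M i₀ U (a • t) = g.app U a • sec g M i₀ U t :=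
  i₀.app_smul a t

theorem Phi_app_ι (U : X₀.Opens) (r : A) (t : Γ(G, U)) :
    (Phi g α M i₀).app U ((Sigma.ι (fun _ : A => G) r).app U t) =
      (show Γ((Scheme.Modules.pushforward g).obj M, U) from
        (res X (g ⁻¹ᵁ U) (α r) • sec g M i₀ U t : Γ(M, g ⁻¹ᵁ U))) := by
  have h1 := congrArg (fun φ : G ⟶ (Scheme.Modules.pushforward g).obj M => φ.app U t) (ι_Phi g α M i₀ r)
  exact h1

theorem Phi_app_surjective (U : X₀.Opens) (hgen : Gen g α U) (s : Set Γ(M, g ⁻¹ᵁ U))
    (hs : Submodule.span Γ(X, g ⁻¹ᵁ U) s = ⊤) (hi : ∀ m ∈ s, ∃ t : Γ(G, U), sec g M i₀ U t = m) :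
    Function.Surjective ((Phi g α M i₀).app U) := by
  let T : AddSubmonoid Γ(M, g ⁻¹ᵁ U) := AddSubmonoid.closure
    {m | ∃ (r : A) (t : Γ(G, U)), m = res X (g ⁻¹ᵁ U) (α r) • sec g M i₀ U t}
  have hT : ∀ (b : Γ(X, g ⁻¹ᵁ U)) (m : Γ(M, g ⁻¹ᵁ U)), m ∈ T → b • m ∈ T := by
    intro b m hm
    induction hm using AddSubmonoid.closure_induction with
    | mem m hm =>
      obtain ⟨r, t, rfl⟩ := hm
      obtain ⟨n, a, r', rfl⟩ := hgen b
      rw [Finset.sum_smul]
      refine sum_mem fun k _ => AddSubmonoid.subset_closure ⟨r' k * r, a k • t, ?_⟩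
      rw [sec_smul, map_mul, map_mul, smul_smul, smul_smul]
      congr 1
      ring
    | zero => rw [smul_zero]; exact T.zero_mem
    | add x y _ _ hx hy => rw [smul_add]; exact T.add_mem hx hy
  have h1 : ∀ m : Γ(M, g ⁻¹ᵁ U), m ∈ T := by
    intro m
    have hm : m ∈ Submodule.span Γ(X, g ⁻¹ᵁ U) s := by rw [hs]; trivial
    induction hm using Submodule.span_induction with
    | mem m hm =>
      obtain ⟨t, rfl⟩ := hi m hm
      refine AddSubmonoid.subset_closure ⟨1, t, ?_⟩
      rw [map_one, map_one, one_smul]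
    | zero => exact T.zero_mem
    | add x y _ _ hx hy => exact T.add_mem hx hy
    | smul b x _ hx => exact hT b x hx
  intro y
  have hy := h1 y
  change (y : Γ(M, g ⁻¹ᵁ U)) ∈ T at hy
  induction hy using AddSubmonoid.closure_induction with
  | mem m hm =>
    obtain ⟨r, t, rfl⟩ := hm
    exact ⟨_, Phi_app_ι g α M i₀ U r t⟩
  | zero => exact ⟨0, map_zero _⟩
  | add x y _ _ hx hy =>
    obtain ⟨a, ha⟩ := hx
    obtain ⟨b, hb⟩ := hy
    exact ⟨a + b, by rw [map_add, ha, hb]; rfl⟩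

end K340.TopGen
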