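import Groth.Agent.Krr.H454.Bridge
import Groth.Agent.S0012
import Groth.Agent.S2249

/-!
# Vanishing of higher direct images above a degree is stable under base change
-/

set_option autoImplicit false
universe u

open CategoryTheory CategoryTheory.Limits AlgebraicGeometry Opposite TopologicalSpace

namespace K340.VanBC

theorem subsingleton_HH_of_iso {X : Scheme.{u}} {M N : X.Modules} (e : M ≅ N) (p : ℕ)
    (h : Subsingleton (Coh.HH X M p)) : Subsingleton (Coh.HH X N p) := by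
  let φ : Coh.toAb M ≅ Coh.toAb N := (SheafOfModules.toSheaf X.ringCatSheaf).mapIso e
  refine ⟨fun a b ↦ ?_⟩
  have key : ∀ a : Coh.HH X N p, Sheaf.H.map φ.hom p (Sheaf.H.map φ.inv p a) = a := by
    intro a
    rw [← Sheaf.H.map_comp_apply, φ.inv_hom_id, Sheaf.H.map_id_apply]
  rw [← key a, ← key b, Subsingleton.elim (Sheaf.H.map φ.inv p a) (Sheaf.H.map φ.inv p b)]

variable {X Y : Scheme.{u}} {f : X ⟶ Y} [CompactSpace X] [QuasiSeparatedSpace X]
  [QuasiSeparatedSpace Y] {d : ℕ}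

/-- The vanishing over an affine open of the target, for all quasi-coherent modules. -/
theorem subsingleton_HH (hvan : ∀ (M : X.Modules) (i : ℕ), Coh.IsQCoh M → d < i →
      IsZero ((Coh.RpushAb f i).obj (Coh.toAb M)))
    {U V : Scheme.{u}} {j' : U ⟶ X} {f'' : U ⟶ V} {j : V ⟶ Y} [IsOpenImmersion j']
    [IsOpenImmersion j] [IsAffine V] (hp : IsPullback j' f'' f j) (N : U.Modules)
    (hN : Coh.IsQCoh N) (i : ℕ) (hi : d < i) : Subsingleton (Coh.HH U N i) := by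
  have hqc : QuasiCompact f := inferInstance
  have hqs : QuasiSeparated f := inferInstance
  have hj : QuasiCompact j := inferInstance
  have hj' : QuasiCompact j' := MorphismProperty.of_isPullback hp.flip hj
  have hN' : Coh.IsQCoh ((Scheme.Modules.pushforward j').obj N) := Groth.Agent.S2249.result j' N
  have h1 := Groth.Agent.Krr.H454.Bridge.subsingleton_HH_of_isZero hp hN' i (hvan _ i hN' hi)
  exact subsingleton_HH_of_iso ((asIso (Scheme.Modules.restrictAdjunction j').counit).app N) i h1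

theorem isZero_baseChange (hvan : ∀ (M : X.Modules) (i : ℕ), Coh.IsQCoh M → d < i →
      IsZero ((Coh.RpushAb f i).obj (Coh.toAb M)))
    {X' Y' : Scheme.{u}} (g : Y' ⟶ Y) (f' : X' ⟶ Y') (g' : X' ⟶ X) (sq : IsPullback g' f' f g)
    (M' : X'.Modules) (hM' : Coh.IsQCoh M') (i : ℕ) (hi : d < i) :
    IsZero ((Coh.RpushAb f' i).obj (Coh.toAb M')) := by
  have hqc : QuasiCompact f := inferInstance
  have hqs : QuasiSeparated f := inferInstance
  have hqc' : QuasiCompact f' := MorphismProperty.of_isPullback sq hqc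
  have hqs' : QuasiSeparated f' := MorphismProperty.of_isPullback sq hqs
  let ι := {p : Y'.affineOpens × Y.affineOpens // (p.1 : Y'.Opens) ≤ g ⁻¹ᵁ (p.2 : Y.Opens)}
  have hs : ∀ s : Y', ∃ p : ι, s ∈ Set.range ((p.1.1 : Y'.Opens).ι) := by
    intro s
    obtain ⟨W, hW, hsW, -⟩ := exists_isAffineOpen_mem_and_subset (x := g s) (U := ⊤) trivial
    obtain ⟨V, hV, hsV, hVW⟩ := exists_isAffineOpen_mem_and_subset (x := s) (U := g ⁻¹ᵁ W) hsW
    refine ⟨⟨(⟨V, hV⟩, ⟨W, hW⟩), hVW⟩, ?_⟩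
    rw [Scheme.Opens.range_ι]
    exact hsV
  have hVaff : ∀ p : ι, IsAffine ((p.1.1 : Y'.Opens) : Scheme.{u}) := fun p ↦ p.1.1.2
  refine (Groth.Agent.Krr.H454.Bridge.isZero_RpushAb_iff (f := f')
    (V := fun p : ι ↦ ((p.1.1 : Y'.Opens) : Scheme.{u}))
    (P := fun p : ι ↦ ((f' ⁻¹ᵁ (p.1.1 : Y'.Opens) : X'.Opens) : Scheme.{u}))
    (h := fun p ↦ (p.1.1 : Y'.Opens).ι) hs (j := fun p ↦ (f' ⁻¹ᵁ (p.1.1 : Y'.Opens)).ι)
    (π := fun p ↦ f' ∣_ (p.1.1 : Y'.Opens))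
    (fun p ↦ (isPullback_morphismRestrict f' _).flip) hM' i).mpr ?_
  intro p
  let V : Y'.Opens := p.1.1
  let W : Y.Opens := p.1.2
  have hVW : V ≤ g ⁻¹ᵁ W := p.2
  have hWaff : IsAffine (W : Scheme.{u}) := p.1.2.2
  have hVaff' : IsAffine (V : Scheme.{u}) := p.1.1.2
  have hle : f' ⁻¹ᵁ V ≤ g' ⁻¹ᵁ (f ⁻¹ᵁ W) := by
    rw [← Scheme.Hom.comp_preimage, sq.w, Scheme.Hom.comp_preimage]
    exact f'.preimage_mono hVW
  let g'' := g'.resLE (f ⁻¹ᵁ W) (f' ⁻¹ᵁ V) hle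
  have hR : IsPullback (f ⁻¹ᵁ W).ι (f ∣_ W) f W.ι := (isPullback_morphismRestrict f W).flip
  have hL : IsPullback (f' ⁻¹ᵁ V).ι (f' ∣_ V) f' V.ι := (isPullback_morphismRestrict f' V).flip
  have hout : IsPullback ((f' ⁻¹ᵁ V).ι ≫ g') (f' ∣_ V) f (V.ι ≫ g) := hL.paste_horiz sq
  have hsq : IsPullback g'' (f' ∣_ V) (f ∣_ W) (g.resLE W V hVW) := by
    refine IsPullback.of_right (h₁₂ := (f ⁻¹ᵁ W).ι) (h₂₂ := W.ι) (v₁₃ := f) ?_ ?_ hR
    · rw [Scheme.Hom.resLE_comp_ι, Scheme.Hom.resLE_comp_ι]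
      exact hout
    · rw [← cancel_mono W.ι, Category.assoc, Category.assoc, morphismRestrict_ι,
        Scheme.Hom.resLE_comp_ι, morphismRestrict_ι_assoc, ← sq.w, ← Category.assoc, ← Category.assoc]
      exact congrArg (· ≫ f) (Scheme.Hom.resLE_comp_ι _ _)
  have haff : IsAffineHom g'' := MorphismProperty.of_isPullback hsq.flip
    (inferInstanceAs (IsAffineHom (g.resLE W V hVW)))
  have hN : Coh.IsQCoh (M'.restrict (f' ⁻¹ᵁ V).ι) :=
    Groth.Agent.PerfA.QCohSerre.isQCoh_restrict _ hM'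
  have hN' : Coh.IsQCoh ((Scheme.Modules.pushforward g'').obj (M'.restrict (f' ⁻¹ᵁ V).ι)) :=
    Groth.Agent.S2249.result g'' _
  obtain ⟨e⟩ := Groth.Agent.S0012.result g'' (M'.restrict (f' ⁻¹ᵁ V).ι) i
  have h1 := subsingleton_HH hvan hR _ hN' i hi
  exact e.toEquiv.subsingleton

end K340.VanBC
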